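import Mathlib
import Cfsg.Agent.H48.WeilRep
import Cfsg.Agent.H48.PointRad

/-!
# Representations of the symplectic group whose radical weights have rank at most one

Weights of transvection subgroups, and the joint weights of an orthogonal pair.
-/

set_option autoImplicit false

namespace H12

namespace RankOne

open Matrix H48

variable {n : ℕ} {F : Type*} [Field F] [Fintype F] [DecidableEq F]

local notation "V" => (Fin n ⊕ Fin n → F)
local notation "Sp" => Matrix.symplecticGroup (Fin n) F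

variable {M : Type*} [AddCommGroup M] [Module ℂ M]

/-- `w` is a weight vector of weight `a` of the transvections at `v`. -/
def WV (ρ : Representation ℂ Sp M) (ψ : AddChar F ℂ) (v : V) (a : F) (w : M) : Prop :=
  ∀ e : F, ρ (tv v e) w = ψ (a * e) • w

/-- Rank-one joint weight of a pair. -/
def PW (ρ : Representation ℂ Sp M) (ψ : AddChar F ℂ) (x y : V) (c s t : F) (w : M) : Prop :=
  ∀ k m : F, WV ρ ψ (k • x + m • y) (c * (k * s + m * t) ^ 2) w

/-- All weights of the radical have rank at most one, with coefficient in `S`. -/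
def Low (ρ : Representation ℂ Sp M) (ψ : AddChar F ℂ) (S : Set F) : Prop :=
  ∀ C : Matrix (Fin n) (Fin n) F, C.IsSymm → ∀ w : M, w ≠ 0 →
    (∀ B, ρ (radical B) w = chiOf ψ C B • w) →
    ∃ c ∈ S, ∃ l, C = c • vecMulVec l l

/-- The projection on a weight. -/
noncomputable def P (ρ : Representation ℂ Sp M) (ψ : AddChar F ℂ) (v : V) (a : F) :
    Module.End ℂ M :=
  (Fintype.card F : ℂ)⁻¹ • ∑ e : F, ψ (-(a * e)) • ρ (tv v e)

variable {ρ : Representation ℂ (Matrix.symplecticGroup (Fin n) F) M} {ψ : AddChar F ℂ}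

omit [Fintype F] [DecidableEq F] in
theorem tv_smul_fix {x v : V} (h : sf x v = 0) (e : F) : tv v e • x = x := by
  rw [tv_smul, h, mul_zero, zero_smul, add_zero]

omit [Fintype F] [DecidableEq F] in
theorem tv_commute_of_fix {g : Sp} {v : V} (h : g • v = v) (e : F) :
    tv v e * g = g * tv v e := by
  have := tv_conj g v e
  rw [h, mul_inv_eq_iff_eq_mul] at this
  exact this.symm

omit [Fintype F] [DecidableEq F] in
theorem rho_rho (g h : Sp) (w : M) : ρ g (ρ h w) = ρ (g * h) w := by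
  rw [map_mul]; rfl

theorem card_ne_zero_C : (Fintype.card F : ℂ) ≠ 0 := Nat.cast_ne_zero.2 Fintype.card_ne_zero

theorem sum_psi (hψ : ψ.IsPrimitive) (a : F) :
    ∑ e : F, ψ (a * e) = if a = 0 then (Fintype.card F : ℂ) else 0 := by
  have := AddChar.sum_mulShift a hψ
  simp only [Nat.cast_ite, Nat.cast_zero] at this
  rw [← this]
  exact Finset.sum_congr rfl fun e _ => by rw [mul_comm]

theorem P_apply (v : V) (a : F) (w : M) :
    P ρ ψ v a w = (Fintype.card F : ℂ)⁻¹ • ∑ e : F, ψ (-(a * e)) • ρ (tv v e) w := by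
  simp [P, LinearMap.sum_apply]

theorem P_isWV (v : V) (a : F) (w : M) : WV ρ ψ v a (P ρ ψ v a w) := by
  intro d
  rw [P_apply, map_smul, map_sum, smul_comm (ψ (a * d)), Finset.smul_sum (r := ψ (a * d))]
  congr 1
  refine Fintype.sum_equiv (Equiv.addLeft d) _ _ fun e => ?_
  rw [map_smul, rho_rho, tv_mul, smul_smul, Equiv.coe_addLeft, ← AddChar.map_add_eq_mul]
  congr 2
  ring

theorem P_of_WV (hψ : ψ.IsPrimitive) {v : V} {a : F} {w : M} (h : WV ρ ψ v a w) (b : F) :
    P ρ ψ v b w = if a = b then w else 0 := by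
  rw [P_apply]
  simp only [h _, smul_smul, ← AddChar.map_add_eq_mul, ← Finset.sum_smul]
  have e : ∀ e : F, -(b * e) + a * e = (a - b) * e := fun e => by ring
  simp only [e, sum_psi hψ, sub_eq_zero]
  split_ifs with hab
  · rw [inv_mul_cancel₀ card_ne_zero_C, one_smul]
  · rw [mul_zero, zero_smul]

theorem sum_P (hψ : ψ.IsPrimitive) (v : V) (w : M) : ∑ a : F, P ρ ψ v a w = w := by
  simp only [P_apply]
  rw [← Finset.smul_sum, Finset.sum_comm]
  simp only [← Finset.sum_smul]
  have e : ∀ e : F, ∑ a : F, ψ (-(a * e)) = if e = 0 then (Fintype.card F : ℂ) else 0 := fun e => by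
    rw [← sum_psi hψ]
    exact Fintype.sum_equiv (Equiv.neg F) _ _ fun a => by simp [mul_comm]
  simp only [e, ite_smul, zero_smul, Finset.sum_ite_eq', Finset.mem_univ, if_true, tv_zero,
    map_one, Module.End.one_apply, smul_smul, inv_mul_cancel₀ card_ne_zero_C, one_smul]

theorem rho_P (g : Sp) (v : V) (a : F) (w : M) :
    ρ g (P ρ ψ v a w) = P ρ ψ (g • v) a (ρ g w) := by
  rw [P_apply, P_apply, map_smul, map_sum]
  congr 1
  refine Finset.sum_congr rfl fun e _ => ?_
  rw [map_smul, rho_rho, rho_rho, ← tv_conj g v e, inv_mul_cancel_right]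

theorem P_comm {z v : V} (h : sf v z = 0) (a b : F) (w : M) :
    P ρ ψ z b (P ρ ψ v a w) = P ρ ψ v a (P ρ ψ z b w) := by
  rw [P_apply z, P_apply z, map_smul, map_sum]
  congr 1
  refine Finset.sum_congr rfl fun e _ => ?_
  rw [map_smul, rho_P, tv_smul_fix h]

theorem WV.map {v : V} {a : F} {w : M} (h : WV ρ ψ v a w) (g : Sp) :
    WV ρ ψ (g • v) a (ρ g w) := by
  intro e
  rw [rho_rho, ← tv_conj g v e, inv_mul_cancel_right, ← rho_rho, h e, map_smul]

theorem PW.map {x y : V} {c s t : F} {w : M} (h : PW ρ ψ x y c s t w) (g : Sp) :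
    PW ρ ψ (g • x) (g • y) c s t (ρ g w) := by
  intro k m
  rw [smul_comm k g x, smul_comm m g y, ← smul_add]
  exact (h k m).map g

theorem PW.left {x y : V} {c s t : F} {w : M} (h : PW ρ ψ x y c s t w) :
    WV ρ ψ x (c * s ^ 2) w := by simpa using h 1 0

theorem PW.right {x y : V} {c s t : F} {w : M} (h : PW ρ ψ x y c s t w) :
    WV ρ ψ y (c * t ^ 2) w := by simpa using h 0 1

theorem PW.add {x y : V} {c s t : F} {w : M} (h : PW ρ ψ x y c s t w) :
    WV ρ ψ (x + y) (c * (s + t) ^ 2) w := by simpa using h 1 1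

/-- A vector killed on all weight vectors of the radical is killed. -/
theorem ext_radical (hψ : ψ.IsPrimitive) (h2 : (2 : F) ≠ 0) {M' : Type*} [AddCommGroup M']
    [Module ℂ M'] (f : M →ₗ[ℂ] M')
    (h : ∀ C : Matrix (Fin n) (Fin n) F, C.IsSymm → ∀ w : M, w ≠ 0 →
      (∀ B, ρ (radical B) w = chiOf ψ C B • w) → f w = 0) : f = 0 := by
  classical
  set N : ℂ := (Fintype.card (symMat n F) : ℂ) with hNdef
  have hN : N ≠ 0 := Nat.cast_ne_zero.2 Fintype.card_ne_zero
  apply LinearMap.ext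
  intro w
  let pr : AddChar (symMat n F) ℂ → M := fun χ =>
    N⁻¹ • ∑ B : symMat n F, χ (-B) • ρ (radical B) w
  have hpr : ∀ χ B, ρ (radical B) (pr χ) = χ B • pr χ := by
    intro χ B
    simp only [pr]
    rw [map_smul, map_sum, smul_comm (χ B), Finset.smul_sum (r := χ B)]
    congr 1
    refine Fintype.sum_equiv (Equiv.addLeft B) _ _ fun D => ?_
    rw [map_smul, rho_rho, smul_smul, Equiv.coe_addLeft, ← radical_add, ← AddChar.map_add_eq_mul]
    congr 2
    simp
  have hsum : ∑ χ, pr χ = w := by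
    simp only [pr, ← Finset.smul_sum]
    rw [Finset.sum_comm]
    simp only [← Finset.sum_smul, AddChar.sum_apply_eq_ite, neg_eq_zero, ite_smul, zero_smul,
      Finset.sum_ite_eq', Finset.mem_univ, if_true, radical_zero, map_one, Module.End.one_apply,
      smul_smul]
    rw [← hNdef, inv_mul_cancel₀ hN, one_smul]
  rw [← hsum, map_sum, LinearMap.zero_apply]
  refine Finset.sum_eq_zero fun χ _ => ?_
  rcases eq_or_ne (pr χ) 0 with h0 | h0
  · rw [h0, map_zero]
  obtain ⟨C, hC, rfl⟩ := exists_chiOf hψ h2 χ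
  exact h C hC _ h0 (hpr _)

omit [Fintype F] [DecidableEq F] in
theorem tv_mulVecL (u : Fin n → F) (e : F) :
    tv (H48.Weil.mulVecL u : V) e = radical (sqMat e u) := by
  refine sp_ext fun z => ?_
  show _ = (fromBlocks 1 (e • vecMulVec u u) 0 1) *ᵥ z
  rw [tv_smul, H48.Weil.sf_eq, fromBlocks_mulVec,
    show H48.Weil.vL (H48.Weil.mulVecL u : V) = u from rfl,
    show H48.Weil.vR (H48.Weil.mulVecL u : V) = 0 from rfl, dotProduct_zero, sub_zero]
  funext i
  rcases i with i | i
  · simp [H48.Weil.mulVecL, vecMulVec_mulVec, smul_mulVec, dotProduct_comm u, Function.comp]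
    rw [show z ∘ Sum.inr = H48.Weil.vR z from rfl]
    ring
  · simp [H48.Weil.mulVecL]

omit [DecidableEq F] in
theorem chiOf_rankOne (c e : F) (l u : Fin n → F) :
    chiOf ψ (c • vecMulVec l l) (sqMat e u) = ψ (c * (l ⬝ᵥ u) ^ 2 * e) := by
  rw [chiOf_apply]
  congr 1
  show ((c • vecMulVec l l) * (e • vecMulVec u u)).trace = _
  rw [Matrix.smul_mul, Matrix.mul_smul, smul_smul, Matrix.trace_smul, vecMulVec_mul_vecMulVec,
    trace_vecMulVec, dotProduct_smul, smul_eq_mul, smul_eq_mul]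
  ring

omit [Fintype F] [DecidableEq F] in
theorem exists_lagr_pair (hn : 2 ≤ n) {x y : V} (hxy : sf x y = 0) :
    ∃ (g : Sp) (u u' : Fin n → F),
      g • (H48.Weil.mulVecL u : V) = x ∧ g • (H48.Weil.mulVecL u' : V) = y := by
  set i₀ : Fin n := ⟨0, by omega⟩
  set i₁ : Fin n := ⟨1, by omega⟩
  have hL : ∀ i, (H48.Weil.mulVecL (Pi.single i 1) : V) = lagr i := fun i => by
    funext j
    rcases j with j | j
    · simp [H48.Weil.mulVecL, lagr, Pi.single_apply]
    · simp [H48.Weil.mulVecL, lagr]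
  have hLs : ∀ (a : F) (u : Fin n → F),
      (H48.Weil.mulVecL (a • u) : V) = a • H48.Weil.mulVecL u := fun a u => by
    funext j
    rcases j with j | j <;> simp [H48.Weil.mulVecL]
  have hl0 : ∀ i, (lagr i : V) ≠ 0 := fun i h => by
    have := congrFun h (Sum.inl i)
    simp [lagr] at this
  by_cases hli : LinearIndependent F ![x, y]
  · have hl : LinearIndependent F ![(lagr i₀ : V), lagr i₁] := by
      have := (lagr_linearIndependent (l := Fin n) (F := F)).comp ![i₀, i₁]
        (by intro a b; fin_cases a <;> fin_cases b <;> simp [i₀, i₁, Fin.ext_iff])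
      convert this using 1
      funext j
      fin_cases j <;> rfl
    obtain ⟨g, -, hg⟩ := witt ![(lagr i₀ : V), lagr i₁] ![x, y] hl hli (by
      intro a b
      fin_cases a <;> fin_cases b <;> simp [hxy, sf_eq_zero_comm hxy])
    exact ⟨g, _, _, by rw [hL]; exact hg 0, by rw [hL]; exact hg 1⟩
  · rcases eq_or_ne x 0 with rfl | hx
    · rcases eq_or_ne y 0 with rfl | hy
      · exact ⟨1, (0 : F) • 0, (0 : F) • 0, by rw [hLs]; simp, by rw [hLs]; simp⟩
      · obtain ⟨g, -, hg⟩ := witt_vec (hl0 i₀) hy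
        exact ⟨g, (0 : F) • 0, _, by rw [hLs]; simp, by rw [hL]; exact hg⟩
    · simp only [LinearIndependent.pair_iff' hx, not_forall, not_not] at hli
      obtain ⟨a, rfl⟩ := hli
      obtain ⟨g, -, hg⟩ := witt_vec (hl0 i₀) hx
      refine ⟨g, _, a • Pi.single i₀ 1, by rw [hL]; exact hg, ?_⟩
      rw [hLs, smul_comm, hL, hg]

/-- Linear maps killing all rank-one joint weight vectors of an orthogonal pair vanish. -/
theorem ext_pair (hψ : ψ.IsPrimitive) (h2 : (2 : F) ≠ 0) (hn : 2 ≤ n) {S : Set F}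
    (hL : Low ρ ψ S) {M' : Type*} [AddCommGroup M'] [Module ℂ M'] {x y : V} (hxy : sf x y = 0)
    (f : M →ₗ[ℂ] M') (h : ∀ c ∈ S, ∀ s t w, PW ρ ψ x y c s t w → f w = 0) : f = 0 := by
  obtain ⟨g, u, u', rfl, rfl⟩ := exists_lagr_pair hn hxy
  have hg : f ∘ₗ ρ g = 0 := by
    refine ext_radical (ρ := ρ) hψ h2 _ fun C hC w hw hrad => ?_
    obtain ⟨c, hc, l, rfl⟩ := hL C hC w hw hrad
    refine h c hc (l ⬝ᵥ u) (l ⬝ᵥ u') _ (PW.map ?_ g)
    intro k m e
    have e1 : k • (H48.Weil.mulVecL u : V) + m • H48.Weil.mulVecL u' =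
        H48.Weil.mulVecL (k • u + m • u') := by
      funext j
      rcases j with j | j <;> simp [H48.Weil.mulVecL]
    rw [e1, tv_mulVecL, hrad, chiOf_rankOne, dotProduct_add, dotProduct_smul, dotProduct_smul,
      smul_eq_mul, smul_eq_mul]
  apply LinearMap.ext
  intro w
  have := LinearMap.congr_fun hg (ρ g⁻¹ w)
  rwa [LinearMap.comp_apply, rho_rho, mul_inv_cancel, map_one, Module.End.one_apply,
    LinearMap.zero_apply] at this

/-- Two maps agree once they agree on rank-one joint weight vectors. -/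
theorem ext_pair₂ (hψ : ψ.IsPrimitive) (h2 : (2 : F) ≠ 0) (hn : 2 ≤ n) {S : Set F}
    (hL : Low ρ ψ S) {M' : Type*} [AddCommGroup M'] [Module ℂ M'] {x y : V} (hxy : sf x y = 0)
    (f f' : M →ₗ[ℂ] M') (h : ∀ c ∈ S, ∀ s t w, PW ρ ψ x y c s t w → f w = f' w) : f = f' :=
  sub_eq_zero.1 (ext_pair hψ h2 hn hL hxy (f - f') fun c hc s t w hw => by
    rw [LinearMap.sub_apply, h c hc s t w hw, sub_self])

theorem Low.mono {S S' : Set F} (hL : Low ρ ψ S) (h : S ⊆ S') : Low ρ ψ S' :=
  fun C hC w hw hr => (hL C hC w hw hr).imp fun _ hc => ⟨h hc.1, hc.2⟩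

end RankOne

end H12
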