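import Mathlib
import Cfsg.Agent.H12.Weil.Pairs

/-!
# Vectors fixed by the transvections of a hyperbolic perp, and the square class of the weights
-/

set_option autoImplicit false

namespace H12

namespace RankOne

open Matrix H48

variable {n : ℕ} {F : Type*} [Field F] [Fintype F] [DecidableEq F]

local notation "V" => (Fin n ⊕ Fin n → F)
local notation "Sp" => Matrix.symplecticGroup (Fin n) F

variable {M : Type*} [AddCommGroup M] [Module ℂ M]
  {ρ : Representation ℂ (Matrix.symplecticGroup (Fin n) F) M} {ψ : AddChar F ℂ}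

omit [Fintype F] [DecidableEq F] in
theorem tv_prod_eq_pu {z w : V} (h : sf z w = 0) (c : F) :
    tv (z + w) c * tv w (-c) * tv z (-c) = MinIdx.pu z (-c • w) 0 := by
  have hwz := sf_eq_zero_comm h
  refine sp_ext fun x => ?_
  rw [MinIdx.pu_smul (by rw [map_smul, h, smul_zero]), mul_smul, mul_smul, tv_smul, tv_smul, tv_smul]
  simp only [map_add, LinearMap.add_apply, map_smul, LinearMap.smul_apply, sf_self, h, hwz,
    smul_eq_mul, sf_swap x z, sf_swap x w]
  match_scalars <;> ring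

theorem WV.scale {v : V} {a : F} {w : M} (h : WV ρ ψ v a w) (k : F) :
    WV ρ ψ (k • v) (a * k ^ 2) w := by
  intro e
  rw [tv_scale, h]
  congr 2
  ring

theorem WV.fix {v : V} {w : M} (h : WV ρ ψ v 0 w) (e : F) : ρ (tv v e) w = w := by
  rw [h e, zero_mul, AddChar.map_zero_eq_one, one_smul]

theorem wv_zero (w : M) : WV ρ ψ (0 : V) 0 w := fun e => by simp

theorem WV.of_P_zero (hψ : ψ.IsPrimitive) {v : V} {w : M}
    (h : ∀ b : F, b ≠ 0 → P ρ ψ v b w = 0) : WV ρ ψ v 0 w := by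
  have := sum_P (ρ := ρ) hψ v w
  rw [Finset.sum_eq_single 0 (fun b _ hb => h b hb) (fun h => absurd (Finset.mem_univ _) h)] at this
  rw [← this]
  exact P_isWV v 0 w

/-- No vector of non-zero weight at `x` is fixed at two non-orthogonal vectors of the perp of `x`. -/
theorem eq_zero_of_wv_fixed (hψ : ψ.IsPrimitive) (h2 : (2 : F) ≠ 0) (hn : 2 ≤ n) {S : Set F}
    (hL : Low ρ ψ S) {x z₁ z₂ : V} (h₁ : sf x z₁ = 0) (h₂ : sf x z₂ = 0) (h₁₂ : sf z₁ z₂ ≠ 0)
    {a : F} (ha : a ≠ 0) {w : M} (hw : WV ρ ψ x a w) (hw₁ : WV ρ ψ z₁ 0 w)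
    (hw₂ : WV ρ ψ z₂ 0 w) : w = 0 := by
  by_contra hw0
  have hpu : ∀ z : V, sf x z = 0 → WV ρ ψ z 0 w → ρ (MinIdx.pu x (-(1 : F) • z) 0) w = w := by
    intro z hz hwz
    have hadd : WV ρ ψ (x + z) a w := by
      intro e
      have hf : (ρ (tv (x + z) e) - ψ (a * e) • 1) ∘ₗ (P ρ ψ z 0 ∘ₗ P ρ ψ x a) = 0 := by
        refine ext_pair (ρ := ρ) hψ h2 hn hL hz _ fun c _ s t u hu => ?_
        simp only [LinearMap.comp_apply]
        rw [P_of_WV hψ hu.left]
        split_ifs with hs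
        · rw [P_of_WV hψ hu.right]
          split_ifs with ht
          · have hc : c ≠ 0 := by rintro rfl; exact ha (by rw [← hs, zero_mul])
            have ht0 : t = 0 := by simpa [hc] using ht
            rw [LinearMap.sub_apply, hu.add e, ht0, add_zero, hs]
            simp
          · simp
        · simp
      have := LinearMap.congr_fun hf w
      simp only [LinearMap.comp_apply, P_of_WV hψ hw, if_true, P_of_WV hψ hwz,
        LinearMap.sub_apply, LinearMap.smul_apply, Module.End.one_apply, LinearMap.zero_apply,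
        sub_eq_zero] at this
      exact this
    rw [← tv_prod_eq_pu hz 1, ← rho_rho, ← rho_rho, hw (-1), map_smul, hwz.fix, map_smul, hadd 1,
      smul_smul, ← AddChar.map_add_eq_mul]
    simp
  obtain ⟨k, hk⟩ : ∃ k : F, ψ ((-(2 * a * sf z₁ z₂)) * k) ≠ 1 := by
    by_contra hcon
    simp only [not_exists, not_not] at hcon
    have hd : -(2 * a * sf z₁ z₂) ≠ 0 := neg_ne_zero.2 (mul_ne_zero (mul_ne_zero h2 ha) h₁₂)
    exact hψ hd (DFunLike.ext _ _ fun e => by rw [AddChar.mulShift_apply, hcon e]; rfl)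
  have hv₁ : sf x (-(1 : F) • k • z₁) = 0 := by rw [map_smul, map_smul, h₁, smul_zero, smul_zero]
  have hv₂ : sf x (-(1 : F) • z₂) = 0 := by rw [map_smul, h₂, smul_zero]
  have e1 := hpu (k • z₁) (by rw [map_smul, h₁, smul_zero]) (by simpa using hw₁.scale k)
  have e2 := hpu z₂ h₂ hw₂
  set g₁ := MinIdx.pu x (-(1 : F) • k • z₁) 0
  set g₂ := MinIdx.pu x (-(1 : F) • z₂) 0
  have e : g₁ * g₂ = g₂ * g₁ * tv x (-(2 * k * sf z₁ z₂)) := by
    rw [← MinIdx.pu_eq_tv, MinIdx.pu_mul hv₁ hv₂, MinIdx.pu_mul hv₂ hv₁,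
      MinIdx.pu_mul (by rw [map_add, hv₁, hv₂, add_zero]) (map_zero _), add_zero, map_zero,
      add_comm (-(1 : F) • z₂)]
    congr 1
    · rw [add_zero]
    · simp only [map_smul, LinearMap.smul_apply, smul_eq_mul, sf_swap z₁ z₂]
      ring
  have e3 := congrArg (fun g => ρ g w) e
  simp only [← rho_rho, hw _, map_smul, e1, e2] at e3
  apply hk
  have e4 : (1 : ℂ) • w = ψ (a * -(2 * k * sf z₁ z₂)) • w := by rw [one_smul]; exact e3
  rw [show -(2 * a * sf z₁ z₂) * k = a * -(2 * k * sf z₁ z₂) by ring]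
  exact (smul_left_injective ℂ hw0 e4).symm

omit [Fintype F] [DecidableEq F] in
theorem exists_perp_pair (hn : 2 ≤ n) {x y : V} (hxy : sf x y ≠ 0) :
    ∃ z₁ z₂ : V, sf x z₁ = 0 ∧ sf y z₁ = 0 ∧ sf x z₂ = 0 ∧ sf y z₂ = 0 ∧ sf z₁ z₂ ≠ 0 := by
  set i₀ : Fin n := ⟨0, by omega⟩ with hi₀
  set i₁ : Fin n := ⟨1, by omega⟩ with hi₁
  have hne : i₀ ≠ i₁ := by simp [i₀, i₁, Fin.ext_iff]
  set f₀ : V := (-(sf x y)) • Pi.single (Sum.inr i₀) 1
  set f₁ : V := Pi.single (Sum.inr i₁) 1
  obtain ⟨g, -, hgx, hgy⟩ := witt_pair (u := (lagr i₀ : V)) (v := f₀) (u' := x) (v' := y)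
    (by simpa [sf_lagr, f₀] using hxy) (by simp [sf_lagr, f₀])
  refine ⟨g • lagr i₁, g • f₁, ?_, ?_, ?_, ?_, ?_⟩ <;> simp only [← hgx, ← hgy, sf_smul_smul]
  · exact sf_lagr_lagr _ _
  · rw [sf_swap, sf_lagr]; simp [f₀, hne.symm]
  · simp [sf_lagr, f₁, hne]
  · simp [f₀, f₁, sf_apply, Pi.single_apply]
  · simp [sf_lagr, f₁]

/-- A vector fixed by the transvections of the perp of a hyperbolic pair is fixed by the group. -/
theorem fixed_of_perp (hψ : ψ.IsPrimitive) (h2 : (2 : F) ≠ 0) (hn : 2 ≤ n) {S : Set F}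
    (hL : Low ρ ψ S) {x y : V} (hxy : sf x y ≠ 0) {u : M}
    (hu : ∀ z, sf x z = 0 → sf y z = 0 → WV ρ ψ z 0 u) (g : Sp) : ρ g u = u := by
  obtain ⟨z₁, z₂, k1, k2, k3, k4, k5⟩ := exists_perp_pair hn hxy
  have hplane : ∀ a b : F, WV ρ ψ (a • x + b • y) 0 u := by
    intro a b
    set p := a • x + b • y
    have hp : ∀ z, sf x z = 0 → sf y z = 0 → sf p z = 0 := fun z a₁ a₂ => by simp [p, a₁, a₂]
    have hkeep : ∀ e z, sf x z = 0 → sf y z = 0 → WV ρ ψ z 0 (P ρ ψ p e u) := by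
      intro e z a₁ a₂ d
      rw [rho_P, tv_smul_fix (hp z a₁ a₂), hu z a₁ a₂ d, map_smul]
    exact WV.of_P_zero hψ fun e he => eq_zero_of_wv_fixed hψ h2 hn hL (hp z₁ k1 k2) (hp z₂ k3 k4) k5
      he (P_isWV p e u) (hkeep e z₁ k1 k2) (hkeep e z₂ k3 k4)
  have hall : ∀ (v : V) (e : F), ρ (tv v e) u = u := by
    intro v e
    set p := (sf v y / sf x y) • x + (sf x v / sf x y) • y with hp
    set z := v - p with hz
    have hzx : sf x z = 0 := by simp [hz, hp, div_mul_cancel₀ _ hxy]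
    have hzy : sf y z = 0 := by
      simp [hz, hp, sf_swap x y, div_mul_cancel₀ _ hxy, sf_swap v y]
    have hpz : sf p z = 0 := by simp [hp, hzx, hzy]
    have hf : (ρ (tv (p + z) e) - 1) ∘ₗ (P ρ ψ z 0 ∘ₗ P ρ ψ p 0) = 0 := by
      refine ext_pair (ρ := ρ) hψ h2 hn hL hpz _ fun c _ s t w hw => ?_
      simp only [LinearMap.comp_apply]
      rw [P_of_WV hψ hw.left]
      split_ifs with hs
      · rw [P_of_WV hψ hw.right]
        split_ifs with ht
        · have h0 : c * (s + t) ^ 2 = 0 := by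
            rcases eq_or_ne c 0 with rfl | hc
            · rw [zero_mul]
            · have hs0 : s = 0 := by simpa [hc] using hs
              have ht0 : t = 0 := by simpa [hc] using ht
              rw [hs0, ht0]; ring
          rw [LinearMap.sub_apply, hw.add e, h0, zero_mul, AddChar.map_zero_eq_one, one_smul,
            Module.End.one_apply, sub_self]
        · simp
      · simp
    have := LinearMap.congr_fun hf u
    have hv : p + z = v := by rw [hz]; abel
    simp only [LinearMap.comp_apply, LinearMap.sub_apply, Module.End.one_apply, LinearMap.zero_apply,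
      sub_eq_zero, hv] at this
    have hpu : P ρ ψ p 0 u = u := by
      rw [P_of_WV hψ (v := p) (a := 0) (hplane _ _), if_pos rfl]
    rw [hpu, P_of_WV hψ (hu z hzx hzy), if_pos rfl] at this
    exact this
  have hmem : g ∈ transGroup (Fin n) F := transGroup_eq_top (l := Fin n) (F := F) ▸ Subgroup.mem_top g
  induction hmem using Subgroup.closure_induction with
  | mem g hg =>
    obtain ⟨w, c, hg⟩ := hg
    obtain rfl : g = tv w c := Subtype.ext hg
    exact hall w c
  | one => simp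
  | mul g g' _ _ hg hg' => rw [← rho_rho, hg', hg]
  | inv g _ hg =>
    conv_lhs => rw [← hg]
    rw [rho_rho, inv_mul_cancel, map_one, Module.End.one_apply]

/-- `a` is `c₀` times a square. -/
def SqCl (c₀ a : F) : Prop := ∃ t, a = c₀ * t ^ 2

theorem P_P_eq_zero (hψ : ψ.IsPrimitive) (h2 : (2 : F) ≠ 0) (hn : 2 ≤ n) {S : Set F}
    (hL : Low ρ ψ S) {c₀ : F} {x y : V} (hxy : sf x y = 0) {a b : F} (ha : a ≠ 0)
    (haC : SqCl c₀ a) (hb : ¬ SqCl c₀ b) (w : M) : P ρ ψ y b (P ρ ψ x a w) = 0 := by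
  refine LinearMap.congr_fun (f := P ρ ψ y b ∘ₗ P ρ ψ x a) (g := 0) ?_ w
  refine ext_pair (ρ := ρ) hψ h2 hn hL hxy _ fun c _ s t u hu => ?_
  rw [LinearMap.comp_apply, P_of_WV hψ hu.left]
  split_ifs with hs
  · rw [P_of_WV hψ hu.right, if_neg]
    intro ht
    apply hb
    obtain ⟨r, rfl⟩ := haC
    have hs0 : s ≠ 0 := by rintro rfl; apply ha; rw [← hs]; ring
    refine ⟨r * t / s, ?_⟩
    rw [← ht]
    field_simp
    linear_combination t ^ 2 * hs
  · simp

/-- An irreducible representation has a single square class of weights. -/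
theorem low_single (hψ : ψ.IsPrimitive) (h2 : (2 : F) ≠ 0) (hn : 2 ≤ n) {S : Set F}
    (hL : Low ρ ψ S) [hirr : ρ.IsIrreducible] (hnf : ∀ u : M, (∀ g, ρ g u = u) → u = 0)
    {c₀ : F} {x₀ : V} {w₀ : M} (hw₀ : w₀ ≠ 0) (hc₀ : c₀ ≠ 0) (hx₀ : WV ρ ψ x₀ c₀ w₀) :
    Low ρ ψ {c₀} := by
  set G₁ : Set M := {w | ∃ (x : V) (a : F), a ≠ 0 ∧ SqCl c₀ a ∧ WV ρ ψ x a w}
  let σ : Subrepresentation ρ := ⟨Submodule.span ℂ G₁, fun g v hv => by
    induction hv using Submodule.span_induction with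
    | mem v hv =>
      obtain ⟨x, a, ha, hC, hx⟩ := hv
      exact Submodule.subset_span ⟨g • x, a, ha, hC, hx.map g⟩
    | zero => simp
    | add v v' _ _ hv hv' => rw [map_add]; exact add_mem hv hv'
    | smul c v _ hv => rw [map_smul]; exact Submodule.smul_mem _ c hv⟩
  have hmem : w₀ ∈ G₁ := ⟨x₀, c₀, hc₀, ⟨1, by ring⟩, hx₀⟩
  haveI : IsSimpleOrder (Subrepresentation ρ) := hirr
  have htop : Submodule.span ℂ G₁ = ⊤ := by
    rcases IsSimpleOrder.eq_bot_or_eq_top σ with hσ | hσ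
    · exfalso
      have h1 : w₀ ∈ σ.toSubmodule := Submodule.subset_span hmem
      rw [hσ] at h1
      exact hw₀ ((Submodule.mem_bot ℂ).1 h1)
    · exact congrArg Subrepresentation.toSubmodule hσ
  have hkill : ∀ (y : V) (b : F), ¬ SqCl c₀ b → P ρ ψ y b = 0 := by
    intro y b hb
    have h0 : ∀ v ∈ Submodule.span ℂ G₁, P ρ ψ y b v = 0 := by
      intro v hv
      induction hv using Submodule.span_induction with
      | mem v hv =>
        obtain ⟨x, a, ha, hC, hx⟩ := hv
        have e : P ρ ψ x a v = v := by rw [P_of_WV hψ hx, if_pos rfl]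
        rw [← e]
        by_cases hxy : sf x y = 0
        · exact P_P_eq_zero hψ h2 hn hL hxy ha hC hb v
        refine hnf _ fun g => fixed_of_perp hψ h2 hn hL hxy (fun z hzx hzy => ?_) g
        refine WV.of_P_zero hψ fun d hd => ?_
        rw [P_comm hzy, P_comm hzx]
        by_cases hdC : SqCl c₀ d
        · rw [← P_comm hzx]
          exact P_P_eq_zero hψ h2 hn hL (sf_eq_zero_comm hzy) hd hdC hb _
        · rw [← P_comm hzx, P_P_eq_zero hψ h2 hn hL hzx ha hC hdC, map_zero]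
      | zero => simp
      | add v v' _ _ hv hv' => rw [map_add, hv, hv', add_zero]
      | smul c v _ hv => rw [map_smul, hv, smul_zero]
    exact LinearMap.ext fun v => h0 v (htop ▸ Submodule.mem_top)
  intro C hC w hw hrad
  obtain ⟨c, -, l, rfl⟩ := hL C hC w hw hrad
  refine ⟨c₀, rfl, ?_⟩
  by_cases h0 : c • vecMulVec l l = 0
  · exact ⟨0, by rw [h0, vecMulVec_zero, smul_zero]⟩
  have hc : c ≠ 0 := by rintro rfl; exact h0 (zero_smul _ _)
  obtain ⟨i, hi⟩ : ∃ i, l i ≠ 0 := by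
    by_contra hcon
    simp only [not_exists, not_not] at hcon
    exact h0 (by rw [show l = 0 from funext hcon, vecMulVec_zero, smul_zero])
  have hwv : WV ρ ψ (H48.Weil.mulVecL (Pi.single i 1) : V) (c * l i ^ 2) w := by
    intro e
    rw [tv_mulVecL, hrad, chiOf_rankOne, dotProduct_single, mul_one]
  obtain ⟨t, ht⟩ : SqCl c₀ (c * l i ^ 2) := by
    by_contra hno
    apply hw
    have := P_of_WV hψ hwv (c * l i ^ 2)
    rwa [if_pos rfl, hkill _ _ hno, LinearMap.zero_apply, eq_comm] at this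
  refine ⟨(t / l i) • l, ?_⟩
  rw [vecMulVec_smul, smul_vecMulVec, smul_smul, smul_smul]
  congr 1
  field_simp
  linear_combination ht

end RankOne

end H12
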