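import Mathlib
import Cfsg.Agent.H12.Weil.Fixed

/-!
# The even Heisenberg relations in a representation of rank one
-/

set_option autoImplicit false

namespace H12

namespace RankOne

open Matrix H48

variable {n : ℕ} {F : Type*} [Field F] [Fintype F] [DecidableEq F]

local notation "V" => (Fin n ⊕ Fin n → F)
local notation "Sp" => Matrix.symplecticGroup (Fin n) F

variable {M : Type*} [AddCommGroup M] [Module ℂ M]

/-- The even Heisenberg operator of a vector, built from transvections. -/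
noncomputable def K (ρ : Representation ℂ Sp M) (ψ : AddChar F ℂ) (v : V) : Module.End ℂ M :=
  P ρ ψ v 0 + ∑ s : F, ψ s • P ρ ψ v (-2⁻¹ * s ^ 2)

variable {ρ : Representation ℂ (Matrix.symplecticGroup (Fin n) F) M} {ψ : AddChar F ℂ}

theorem K_apply (v : V) (w : M) :
    K ρ ψ v w = P ρ ψ v 0 w + ∑ s : F, ψ s • P ρ ψ v (-2⁻¹ * s ^ 2) w := by
  simp [K, LinearMap.sum_apply]

theorem K_of_WV (hψ : ψ.IsPrimitive) (h2 : (2 : F) ≠ 0) {v : V} {σ : F} {w : M}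
    (h : WV ρ ψ v (-2⁻¹ * σ ^ 2) w) : K ρ ψ v w = (ψ σ + ψ (-σ)) • w := by
  have hne : (-2⁻¹ : F) ≠ 0 := neg_ne_zero.2 (inv_ne_zero h2)
  rw [K_apply, P_of_WV hψ h]
  simp only [P_of_WV hψ h, smul_ite, smul_zero, ← Finset.sum_filter, mul_right_inj' hne]
  rcases eq_or_ne σ 0 with rfl | hσ
  · rw [if_pos (by ring), neg_zero]
    have e : (Finset.univ.filter fun s : F => (0 : F) ^ 2 = s ^ 2) = {0} := by
      ext s; simp [eq_comm (a := (0 : F))]
    rw [e, Finset.sum_singleton, AddChar.map_zero_eq_one, add_smul, one_smul]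
  · rw [if_neg (mul_ne_zero hne (pow_ne_zero 2 hσ)), zero_add]
    have hne' : σ ≠ -σ := by
      intro e
      have : 2 * σ = 0 := by linear_combination e
      exact hσ ((mul_eq_zero.1 this).resolve_left h2)
    have e : (Finset.univ.filter fun s : F => σ ^ 2 = s ^ 2) = {σ, -σ} := by
      ext s
      rw [Finset.mem_filter, eq_comm, sq_eq_sq_iff_eq_or_eq_neg]
      simp
    rw [e, Finset.sum_pair hne', add_smul]

theorem K_zero (hψ : ψ.IsPrimitive) (h2 : (2 : F) ≠ 0) (w : M) :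
    K ρ ψ (0 : V) w = (2 : ℂ) • w := by
  rw [K_of_WV hψ h2 (σ := 0) (by simpa using wv_zero w)]
  simp [one_add_one_eq_two]

theorem P_neg (v : V) (a : F) : P ρ ψ (-v) a = P ρ ψ v a := by
  rw [P, P]
  congr 1
  refine Finset.sum_congr rfl fun e _ => ?_
  rw [← neg_one_smul F v, tv_scale]
  simp

theorem K_neg (v : V) : K ρ ψ (-v) = K ρ ψ v := by
  simp only [K, P_neg]

theorem rho_K (g : Sp) (v : V) (w : M) : ρ g (K ρ ψ v w) = K ρ ψ (g • v) (ρ g w) := by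
  simp only [K_apply, map_add, map_sum, map_smul, rho_P]

theorem K_P_comm {z v : V} (h : sf v z = 0) (b : F) (w : M) :
    P ρ ψ z b (K ρ ψ v w) = K ρ ψ v (P ρ ψ z b w) := by
  simp only [K_apply, map_add, map_sum, map_smul, P_comm h]

/-- The product rule for orthogonal vectors. -/
theorem K_mul_orth (hψ : ψ.IsPrimitive) (h2 : (2 : F) ≠ 0) (hn : 2 ≤ n)
    (hG : Low ρ ψ {(-2⁻¹ : F)}) {x y : V} (h : sf x y = 0) (w : M) :
    K ρ ψ x (K ρ ψ y w) = K ρ ψ (x + y) w + K ρ ψ (x - y) w := by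
  refine LinearMap.congr_fun (f := K ρ ψ x ∘ₗ K ρ ψ y) (g := K ρ ψ (x + y) + K ρ ψ (x - y)) ?_ w
  refine ext_pair₂ (ρ := ρ) hψ h2 hn hG h _ _ fun c hc s t u hu => ?_
  obtain rfl : c = -2⁻¹ := hc
  have h1 : WV ρ ψ (x + y) (-2⁻¹ * (s + t) ^ 2) u := hu.add
  have h3 : WV ρ ψ (x - y) (-2⁻¹ * (s - t) ^ 2) u := by
    simpa [← sub_eq_add_neg] using hu 1 (-1)
  rw [LinearMap.comp_apply, LinearMap.add_apply, K_of_WV hψ h2 hu.right, map_smul,
    K_of_WV hψ h2 hu.left, K_of_WV hψ h2 h1, K_of_WV hψ h2 h3, smul_smul, ← add_smul]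
  congr 1
  simp only [sub_eq_add_neg, neg_add, neg_neg, AddChar.map_add_eq_mul]
  ring

/-- The Heisenberg element of `w` at `z`, scaled by `s`. -/
noncomputable def J (ρ : Representation ℂ Sp M) (z : V) (s : F) (w : V) : Module.End ℂ M :=
  ρ (MinIdx.pu z (s⁻¹ • w) 0)

theorem P_J_comm {z w : V} (hw : sf z w = 0) (s a : F) (u : M) :
    J ρ z s w (P ρ ψ z a u) = P ρ ψ z a (J ρ z s w u) := by
  rw [J, rho_P, MinIdx.pu_smul_self (by rw [map_smul, hw, smul_zero])]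

theorem K_eq_J (hψ : ψ.IsPrimitive) (h2 : (2 : F) ≠ 0) (hn : 2 ≤ n)
    (hG : Low ρ ψ {(-2⁻¹ : F)}) {z w : V} (hw : sf z w = 0) {s : F} (hs : s ≠ 0) (u : M) :
    K ρ ψ w (P ρ ψ z (-2⁻¹ * s ^ 2) u) =
      J ρ z s w (P ρ ψ z (-2⁻¹ * s ^ 2) u) + J ρ z s (-w) (P ρ ψ z (-2⁻¹ * s ^ 2) u) := by
  have hne : (-2⁻¹ : F) ≠ 0 := neg_ne_zero.2 (inv_ne_zero h2)
  refine LinearMap.congr_fun (f := K ρ ψ w ∘ₗ P ρ ψ z (-2⁻¹ * s ^ 2))
    (g := (J ρ z s w + J ρ z s (-w)) ∘ₗ P ρ ψ z (-2⁻¹ * s ^ 2)) ?_ u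
  refine ext_pair₂ (ρ := ρ) hψ h2 hn hG hw _ _ fun c hc σ t v hv => ?_
  obtain rfl : c = -2⁻¹ := hc
  simp only [LinearMap.comp_apply, P_of_WV hψ hv.left]
  split_ifs with hσ
  swap
  · simp
  have hσ' : σ = s ∨ σ = -s := sq_eq_sq_iff_eq_or_eq_neg.1 (mul_left_cancel₀ hne hσ)
  have hJ : ∀ c : F, ρ (MinIdx.pu z (-c • w) 0) v = ψ (-(c * σ * t)) • v := by
    intro c
    rw [← tv_prod_eq_pu hw c, ← rho_rho, ← rho_rho, hv.left (-c), map_smul, hv.right (-c),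
      map_smul, map_smul, hv.add c]
    simp only [smul_smul, ← AddChar.map_add_eq_mul]
    congr 2
    field_simp
    ring
  have e1 : J ρ z s w v = ψ (s⁻¹ * σ * t) • v := by
    rw [J, ← neg_neg s⁻¹, hJ (-s⁻¹)]; simp
  have e2 : J ρ z s (-w) v = ψ (-(s⁻¹ * σ * t)) • v := by
    rw [J, smul_neg, ← neg_smul, hJ s⁻¹]
  rw [LinearMap.add_apply, e1, e2, K_of_WV hψ h2 hv.right, ← add_smul]
  congr 1
  rcases hσ' with rfl | rfl <;> field_simp <;> ring_nf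

theorem J_mul (hψ : ψ.IsPrimitive) {z w w' : V} (hw : sf z w = 0) (hw' : sf z w' = 0) {s : F}
    (hs : s ≠ 0) (u : M) :
    J ρ z s w (J ρ z s w' (P ρ ψ z (-2⁻¹ * s ^ 2) u)) =
      ψ (2⁻¹ * sf w w') • J ρ z s (w + w') (P ρ ψ z (-2⁻¹ * s ^ 2) u) := by
  have h1 : sf z (s⁻¹ • w) = 0 := by rw [map_smul, hw, smul_zero]
  have h3 : sf z (s⁻¹ • w') = 0 := by rw [map_smul, hw', smul_zero]
  have e : MinIdx.pu z (s⁻¹ • w) 0 * MinIdx.pu z (s⁻¹ • w') 0 =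
      MinIdx.pu z (s⁻¹ • (w + w')) 0 * tv z (-(s⁻¹ * s⁻¹ * sf w w')) := by
    rw [← MinIdx.pu_eq_tv, MinIdx.pu_mul h1 h3,
      MinIdx.pu_mul (by rw [map_smul, map_add, hw, hw', add_zero, smul_zero]) (map_zero _),
      add_zero, smul_add]
    congr 1
    · rw [add_zero]
    · simp only [map_smul, LinearMap.smul_apply, smul_eq_mul, map_zero]
      ring
  have hwv := P_isWV (ρ := ρ) (ψ := ψ) z (-2⁻¹ * s ^ 2) u
  rw [J, J, J, rho_rho, e, ← rho_rho, hwv _, map_smul]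
  congr 2
  field_simp

/-- The product rule, on a non-zero weight space at a vector orthogonal to both factors. -/
theorem K_mul_weight (hψ : ψ.IsPrimitive) (h2 : (2 : F) ≠ 0) (hn : 2 ≤ n)
    (hG : Low ρ ψ {(-2⁻¹ : F)}) {z x y : V} (hx : sf z x = 0) (hy : sf z y = 0) {s : F}
    (hs : s ≠ 0) (u : M) :
    K ρ ψ x (K ρ ψ y (P ρ ψ z (-2⁻¹ * s ^ 2) u)) =
      ψ (2⁻¹ * sf x y) • K ρ ψ (x + y) (P ρ ψ z (-2⁻¹ * s ^ 2) u) +
      ψ (-(2⁻¹ * sf x y)) • K ρ ψ (x - y) (P ρ ψ z (-2⁻¹ * s ^ 2) u) := by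
  have hy' : sf z (-y) = 0 := by rw [map_neg, hy, neg_zero]
  have hx' : sf z (-x) = 0 := by rw [map_neg, hx, neg_zero]
  have hadd : sf z (x + y) = 0 := by rw [map_add, hx, hy, add_zero]
  have hsub : sf z (x - y) = 0 := by rw [map_sub, hx, hy, sub_zero]
  set a := -2⁻¹ * s ^ 2 with ha
  have hstep : ∀ w : V, sf z w = 0 → K ρ ψ x (J ρ z s w (P ρ ψ z a u)) =
      J ρ z s x (J ρ z s w (P ρ ψ z a u)) + J ρ z s (-x) (J ρ z s w (P ρ ψ z a u)) := by
    intro w hw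
    rw [P_J_comm hw, ha, K_eq_J hψ h2 hn hG hx hs]
  rw [ha, K_eq_J hψ h2 hn hG hy hs, map_add, ← ha, hstep y hy, hstep (-y) hy', ha]
  simp only [J_mul hψ hx hy hs, J_mul hψ hx' hy hs, J_mul hψ hx hy' hs, J_mul hψ hx' hy' hs]
  rw [K_eq_J hψ h2 hn hG hadd hs, K_eq_J hψ h2 hn hG hsub hs]
  simp only [map_neg, LinearMap.neg_apply, neg_neg, mul_neg, smul_add]
  rw [show -(x + y) = -x + -y by abel, show -(x - y) = -x + y by abel, ← sub_eq_add_neg x y]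
  abel

theorem P_eq_zero_of_not_sq (hψ : ψ.IsPrimitive) (h2 : (2 : F) ≠ 0) (hn : 2 ≤ n)
    (hG : Low ρ ψ {(-2⁻¹ : F)}) (z : V) {e : F} (he : ∀ s : F, e ≠ -2⁻¹ * s ^ 2) :
    P ρ ψ z e = 0 := by
  refine ext_pair (ρ := ρ) (x := z) (y := z) hψ h2 hn hG (sf_self z) _ fun c hc s t u hu => ?_
  obtain rfl : c = -2⁻¹ := hc
  rw [P_of_WV hψ hu.left, if_neg fun h => he s h.symm]

/-- The product rule. -/
theorem K_mul (hψ : ψ.IsPrimitive) (h2 : (2 : F) ≠ 0) (hn : 2 ≤ n)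
    (hG : Low ρ ψ {(-2⁻¹ : F)}) (hnf : ∀ u : M, (∀ g, ρ g u = u) → u = 0) (x y : V) (w : M) :
    K ρ ψ x (K ρ ψ y w) =
      ψ (2⁻¹ * sf x y) • K ρ ψ (x + y) w + ψ (-(2⁻¹ * sf x y)) • K ρ ψ (x - y) w := by
  by_cases h : sf x y = 0
  · rw [h, mul_zero, neg_zero, AddChar.map_zero_eq_one, one_smul, one_smul,
      K_mul_orth hψ h2 hn hG h]
  rw [← sub_eq_zero]
  refine hnf _ fun g => fixed_of_perp hψ h2 hn hG h (fun z hzx hzy => ?_) g
  refine WV.of_P_zero hψ fun e he => ?_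
  have c1 : sf (x + y) z = 0 := by simp [hzx, hzy]
  have c2 : sf (x - y) z = 0 := by simp [hzx, hzy]
  rw [map_sub, map_add, map_smul, map_smul, K_P_comm hzx, K_P_comm hzy, K_P_comm c1, K_P_comm c2]
  by_cases hsq : ∀ s : F, e ≠ -2⁻¹ * s ^ 2
  · simp [P_eq_zero_of_not_sq hψ h2 hn hG z hsq]
  · simp only [not_forall, not_not] at hsq
    obtain ⟨s, rfl⟩ := hsq
    rw [K_mul_weight hψ h2 hn hG (sf_eq_zero_comm hzx) (sf_eq_zero_comm hzy)
      (fun hs => he (by rw [hs]; ring)), sub_self]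

/-- The coefficients of a transvection. -/
noncomputable def tvCoeff (ψ : AddChar F ℂ) (c k : F) : ℂ :=
  (2 * (Fintype.card F : ℂ))⁻¹ * ∑ s : F, ψ (-(2⁻¹ * c * s ^ 2 + k * s))

/-- A transvection is a combination of even Heisenberg operators. -/
theorem rho_tv (hψ : ψ.IsPrimitive) (h2 : (2 : F) ≠ 0) (hn : 2 ≤ n)
    (hG : Low ρ ψ {(-2⁻¹ : F)}) (v : V) (c : F) :
    ρ (tv v c) = ∑ k : F, tvCoeff ψ c k • K ρ ψ (k • v) := by
  refine ext_pair₂ (ρ := ρ) (x := v) (y := v) hψ h2 hn hG (sf_self v) _ _ fun c' hc' σ t u hu => ?_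
  obtain rfl : c' = -2⁻¹ := hc'
  have hk : ∀ k : F, K ρ ψ (k • v) u = (ψ (σ * k) + ψ (-(σ * k))) • u := fun k => by
    refine K_of_WV hψ h2 ?_
    have := hu.left.scale k
    rwa [mul_assoc, ← mul_pow] at this
  rw [hu.left c, LinearMap.sum_apply]
  simp only [LinearMap.smul_apply, hk, smul_smul, ← Finset.sum_smul]
  congr 1
  simp only [tvCoeff, mul_assoc, ← Finset.mul_sum, Finset.sum_mul]
  rw [Finset.sum_comm]
  simp only [mul_add, Finset.sum_add_distrib, ← AddChar.map_add_eq_mul]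
  have e1 : ∀ s : F, ∑ k : F, ψ (-(2⁻¹ * (c * s ^ 2) + k * s) + σ * k) =
      ψ (-(2⁻¹ * (c * s ^ 2))) * (if s = σ then (Fintype.card F : ℂ) else 0) := fun s => by
    rw [if_congr (show s = σ ↔ σ - s = 0 by rw [sub_eq_zero, eq_comm]) rfl rfl, ← sum_psi hψ,
      Finset.mul_sum]
    refine Finset.sum_congr rfl fun k _ => ?_
    rw [← AddChar.map_add_eq_mul]
    congr 1
    ring
  have e2 : ∀ s : F, ∑ k : F, ψ (-(2⁻¹ * (c * s ^ 2) + k * s) + -(σ * k)) =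
      ψ (-(2⁻¹ * (c * s ^ 2))) * (if s = -σ then (Fintype.card F : ℂ) else 0) := fun s => by
    rw [if_congr (show s = -σ ↔ -σ - s = 0 by rw [sub_eq_zero, eq_comm]) rfl rfl, ← sum_psi hψ,
      Finset.mul_sum]
    refine Finset.sum_congr rfl fun k _ => ?_
    rw [← AddChar.map_add_eq_mul]
    congr 1
    ring
  simp only [e1, e2, mul_ite, mul_zero, Finset.sum_ite_eq', Finset.mem_univ, if_true]
  rw [show (-σ) ^ 2 = σ ^ 2 by ring, show -2⁻¹ * (σ ^ 2 * c) = -(2⁻¹ * (c * σ ^ 2)) by ring]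
  have := card_ne_zero_C (F := F)
  field_simp
  ring

/-- The group lies in the span of the operators `K`, with coefficients independent of the
representation. -/
def HasCoeff (ψ : AddChar F ℂ) (ρ : Representation ℂ Sp M) (g : Sp) (c : V → ℂ) : Prop :=
  ρ g = ∑ v : V, c v • K ρ ψ v

/-- Convolution of coefficient families. -/
noncomputable def conv (ψ : AddChar F ℂ) (c c' : V → ℂ) : V → ℂ := fun u =>
  (∑ v : V, c v * c' (u - v) * ψ (2⁻¹ * sf v (u - v))) +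
    ∑ v : V, c v * c' (v - u) * ψ (-(2⁻¹ * sf v (v - u)))

theorem HasCoeff.mul (hψ : ψ.IsPrimitive) (h2 : (2 : F) ≠ 0) (hn : 2 ≤ n)
    (hG : Low ρ ψ {(-2⁻¹ : F)}) (hnf : ∀ u : M, (∀ g, ρ g u = u) → u = 0) {g g' : Sp}
    {c c' : V → ℂ} (hg : HasCoeff ψ ρ g c) (hg' : HasCoeff ψ ρ g' c') :
    HasCoeff ψ ρ (g * g') (conv ψ c c') := by
  apply LinearMap.ext
  intro w
  rw [← rho_rho, hg, hg']
  simp only [LinearMap.sum_apply, LinearMap.smul_apply, map_sum, map_smul, Finset.smul_sum,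
    smul_smul, K_mul hψ h2 hn hG hnf, smul_add, conv, add_smul, Finset.sum_add_distrib,
    Finset.sum_smul]
  rw [LinearMap.add_apply]
  simp only [LinearMap.sum_apply, LinearMap.smul_apply]
  refine congrArg₂ (· + ·) ?_ ?_
  · rw [Finset.sum_comm]
    conv_rhs => rw [Finset.sum_comm]
    refine Finset.sum_congr rfl fun v _ => ?_
    refine Fintype.sum_equiv (Equiv.addLeft v) _ _ fun y => ?_
    simp only [Equiv.coe_addLeft, add_sub_cancel_left]
    congr 1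
    ring
  · rw [Finset.sum_comm]
    conv_rhs => rw [Finset.sum_comm]
    refine Finset.sum_congr rfl fun v _ => ?_
    refine Fintype.sum_equiv (Equiv.subLeft v) _ _ fun y => ?_
    simp only [Equiv.subLeft_apply, sub_sub_cancel]
    congr 1
    ring

end RankOne

end H12
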