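import Mathlib
import Cfsg.Agent.H12.Weil.Relations
import Cfsg.Agent.H12.Orth
import Cfsg.Agent.H48.WeilIrred

/-!
# At most two irreducible characters of rank one in each square class
-/

set_option autoImplicit false

namespace H12

namespace RankOne

open Matrix H48 Cfsg

variable {n : ℕ} {F : Type*} [Field F] [Fintype F] [DecidableEq F]

local notation "V" => (Fin n ⊕ Fin n → F)
local notation "Sp" => Matrix.symplecticGroup (Fin n) F

/-- A representation to which the product rule applies. -/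
def IsRk1 {k : ℕ} (ψ : AddChar F ℂ) (ρ : Representation ℂ Sp (Fin k → ℂ)) : Prop :=
  Low ρ ψ {(-2⁻¹ : F)} ∧ ∀ u, (∀ g, ρ g u = u) → u = 0

/-- An irreducible character afforded by such a representation. -/
def IsRk1Char (ψ : AddChar F ℂ) (χ : IrrCharacter Sp) : Prop :=
  ∃ (k : ℕ) (ρ : Representation ℂ Sp (Fin k → ℂ)), IsRk1 ψ ρ ∧ ρ.character = (χ : Sp → ℂ)

variable {ψ : AddChar F ℂ}

theorem exists_coeff (hψ : ψ.IsPrimitive) (h2 : (2 : F) ≠ 0) (hn : 2 ≤ n) (g : Sp) :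
    ∃ c : V → ℂ, ∀ (k : ℕ) (ρ : Representation ℂ Sp (Fin k → ℂ)), IsRk1 ψ ρ →
      HasCoeff ψ ρ g c := by
  classical
  have htv : ∀ (v : V) (e : F), ∃ c : V → ℂ, ∀ (k : ℕ) (ρ : Representation ℂ Sp (Fin k → ℂ)),
      IsRk1 ψ ρ → HasCoeff ψ ρ (tv v e) c := by
    intro v e
    refine ⟨fun u => ∑ a : F, if a • v = u then tvCoeff ψ e a else 0, fun k ρ h => ?_⟩
    rw [HasCoeff, rho_tv hψ h2 hn h.1]
    simp only [Finset.sum_smul, ite_smul, zero_smul]
    rw [Finset.sum_comm]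
    simp
  have hone : ∃ c : V → ℂ, ∀ (k : ℕ) (ρ : Representation ℂ Sp (Fin k → ℂ)), IsRk1 ψ ρ →
      HasCoeff ψ ρ 1 c := by simpa using htv 0 0
  have hmul : ∀ g g' : Sp,
      (∃ c : V → ℂ, ∀ (k : ℕ) (ρ : Representation ℂ Sp (Fin k → ℂ)), IsRk1 ψ ρ →
        HasCoeff ψ ρ g c) →
      (∃ c : V → ℂ, ∀ (k : ℕ) (ρ : Representation ℂ Sp (Fin k → ℂ)), IsRk1 ψ ρ →
        HasCoeff ψ ρ g' c) →
      ∃ c : V → ℂ, ∀ (k : ℕ) (ρ : Representation ℂ Sp (Fin k → ℂ)), IsRk1 ψ ρ →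
        HasCoeff ψ ρ (g * g') c :=
    fun g g' ⟨c, hc⟩ ⟨c', hc'⟩ =>
      ⟨conv ψ c c', fun k ρ h => (hc k ρ h).mul hψ h2 hn h.1 h.2 (hc' k ρ h)⟩
  have hmem : g ∈ transGroup (Fin n) F :=
    transGroup_eq_top (l := Fin n) (F := F) ▸ Subgroup.mem_top g
  induction hmem using Subgroup.closure_induction with
  | mem g hg =>
    obtain ⟨w, c, hg⟩ := hg
    obtain rfl : g = tv w c := Subtype.ext hg
    exact htv w c
  | one => exact hone
  | mul g g' _ _ hg hg' => exact hmul g g' hg hg'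
  | inv g _ hg =>
    have hpow : ∀ j : ℕ, ∃ c : V → ℂ, ∀ (k : ℕ) (ρ : Representation ℂ Sp (Fin k → ℂ)),
        IsRk1 ψ ρ → HasCoeff ψ ρ (g ^ j) c := by
      intro j
      induction j with
      | zero => simpa using hone
      | succ j ih => rw [pow_succ]; exact hmul _ _ ih hg
    have e : g⁻¹ = g ^ (orderOf g - 1) := by
      refine inv_eq_of_mul_eq_one_right ?_
      rw [← pow_succ', Nat.sub_add_cancel (orderOf_pos g), pow_orderOf_eq_one]
    rw [e]
    exact hpow _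

/-- In each class there are at most two rank-one irreducible characters. -/
theorem card_rk1Char_le (hψ : ψ.IsPrimitive) (h2 : (2 : F) ≠ 0) (hn : 2 ≤ n) :
    Nat.card {χ : IrrCharacter Sp // IsRk1Char ψ χ} ≤ 2 := by
  classical
  choose c hc using exists_coeff (n := n) hψ h2 hn
  let A : Sp → ℂ := fun g => c g 0
  let B : Sp → ℂ := fun g => ∑ v ∈ Finset.univ.erase (0 : V), c g v
  have hspan : ∀ χ : {χ : IrrCharacter Sp // IsRk1Char ψ χ},
      (χ.1 : Sp → ℂ) ∈ Submodule.span ℂ ({A, B} : Set (Sp → ℂ)) := by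
    rintro ⟨χ, k, ρ, hρ, hχ⟩
    set e₀ : V := lagr ⟨0, by omega⟩
    have he₀ : e₀ ≠ 0 := fun h => by simpa [e₀, lagr] using congrFun h (Sum.inl ⟨0, by omega⟩)
    set τ := LinearMap.trace ℂ (Fin k → ℂ) (K ρ ψ e₀)
    have hτ : ∀ v : V, v ≠ 0 → LinearMap.trace ℂ (Fin k → ℂ) (K ρ ψ v) = τ := by
      intro v hv
      obtain ⟨g, -, rfl⟩ := witt_vec he₀ hv
      have e : K ρ ψ (g • e₀) = ρ g * (K ρ ψ e₀ * ρ g⁻¹) := by
        apply LinearMap.ext
        intro w
        rw [Module.End.mul_apply, Module.End.mul_apply, rho_K, rho_rho, mul_inv_cancel, map_one,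
          Module.End.one_apply]
      rw [e, LinearMap.trace_mul_comm, mul_assoc, ← map_mul, inv_mul_cancel, map_one, mul_one]
    set τ₀ := LinearMap.trace ℂ (Fin k → ℂ) (K ρ ψ (0 : V))
    refine Submodule.mem_span_pair.2 ⟨τ₀, τ, ?_⟩
    rw [← hχ]
    funext g
    show τ₀ * A g + τ * B g = LinearMap.trace ℂ _ (ρ g)
    rw [hc g k ρ hρ, map_sum, ← Finset.add_sum_erase _ _ (Finset.mem_univ (0 : V)), map_smul,
      smul_eq_mul, mul_comm τ₀, mul_comm τ, Finset.sum_mul]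
    congr 1
    refine Finset.sum_congr rfl fun v hv => ?_
    rw [map_smul, smul_eq_mul, hτ v (Finset.ne_of_mem_erase hv)]
  have hli : LinearIndependent ℂ fun χ : {χ : IrrCharacter Sp // IsRk1Char ψ χ} => (χ.1 : Sp → ℂ) :=
    (H12.linearIndependent_irr Sp).comp Subtype.val Subtype.val_injective
  haveI : Fintype {χ : IrrCharacter Sp // IsRk1Char ψ χ} := Fintype.ofFinite _
  rw [Nat.card_eq_fintype_card, ← finrank_span_eq_card hli]
  refine le_trans (Submodule.finrank_mono (Submodule.span_le.2 ?_))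
    (le_trans (finrank_span_le_card ({A, B} : Set (Sp → ℂ))) ?_)
  · rintro _ ⟨χ, rfl⟩
    exact hspan χ
  · rw [Set.toFinset_insert, Set.toFinset_singleton]
    exact Finset.card_le_two

variable {M : Type*} [AddCommGroup M] [Module ℂ M]
  {ρ : Representation ℂ (Matrix.symplecticGroup (Fin n) F) M}

omit [DecidableEq F] in
theorem chiOf_mulShift (k : F) (C : Matrix (Fin n) (Fin n) F) :
    chiOf (ψ.mulShift k) C = chiOf ψ (k • C) := by
  refine DFunLike.ext _ _ fun B => ?_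
  rw [chiOf_apply, chiOf_apply, AddChar.mulShift_apply, Matrix.smul_mul, Matrix.trace_smul,
    smul_eq_mul]

omit [Fintype F] [DecidableEq F] in
theorem isPrimitive_mulShift (hψ : ψ.IsPrimitive) {k : F} (hk : k ≠ 0) :
    (ψ.mulShift k).IsPrimitive := by
  intro a ha
  rw [AddChar.mulShift_mulShift]
  exact hψ (mul_ne_zero hk ha)

theorem exists_nonsquare (h2 : (2 : F) ≠ 0) : ∃ a : F, ¬ IsSquare a :=
  FiniteField.exists_nonsquare fun h => h2 (by
    have := CharP.cast_eq_zero F (ringChar F)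
    rw [h] at this
    exact_mod_cast this)

theorem isSquare_mul_of_nonsquare (h2 : (2 : F) ≠ 0) {a b : F} (ha : ¬ IsSquare a)
    (hb : ¬ IsSquare b) : IsSquare (a * b) := by
  have hF : ringChar F ≠ 2 := fun h => h2 (by
    have := CharP.cast_eq_zero F (ringChar F)
    rw [h] at this
    exact_mod_cast this)
  have ha0 : a ≠ 0 := fun h => ha (h ▸ IsSquare.zero)
  have hb0 : b ≠ 0 := fun h => hb (h ▸ IsSquare.zero)
  rw [← quadraticChar_one_iff_isSquare (mul_ne_zero ha0 hb0), map_mul,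
    (quadraticChar_neg_one_iff_not_isSquare.2 ha), (quadraticChar_neg_one_iff_not_isSquare.2 hb)]
  rfl

omit [Fintype F] [DecidableEq F] in
theorem isPrimitive_ne_zero {ε : F} (hε : ¬ IsSquare ε) : ε ≠ 0 := fun h => hε (h ▸ IsSquare.zero)

/-- Irreducible representations of rank one fall into two square classes. -/
theorem exists_class (hψ : ψ.IsPrimitive) (h2 : (2 : F) ≠ 0) (hn : 2 ≤ n) {ε : F}
    (hε : ¬ IsSquare ε) [FiniteDimensional ℂ M] [ρ.IsIrreducible]
    (hL : Low ρ ψ Set.univ) (hnf : ∀ u : M, (∀ g, ρ g u = u) → u = 0) :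
    ∃ k ∈ ({1, ε} : Set F), Low ρ (ψ.mulShift k) {(-2⁻¹ : F)} := by
  classical
  obtain ⟨u, hu⟩ : ∃ u : M, u ≠ 0 := by
    haveI := H12.nontrivial_of_isIrreducible ρ
    exact exists_ne 0
  obtain ⟨B, hB⟩ : ∃ B, ρ (radical B) ≠ 1 := by
    by_contra hcon
    simp only [not_exists, not_not] at hcon
    refine hu (hnf u fun g => ?_)
    let φ := MonoidHom.toHomUnits ρ
    have : φ.ker = ⊤ := eq_top_of_radical_le (by omega) φ.ker fun B =>
      MonoidHom.mem_ker.2 (Units.ext (hcon B))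
    have e : ρ g = 1 := congrArg Units.val (MonoidHom.mem_ker.1 (this ▸ Subgroup.mem_top g : g ∈ φ.ker))
    rw [e, Module.End.one_apply]
  have hact : AbW.IsAct (fun a : symMat n F => ρ (radical a)) :=
    ⟨by rw [radical_zero, _root_.map_one], fun a b => by rw [radical_add, _root_.map_mul]⟩
  obtain ⟨χ, hχ1, w, hw0, hw⟩ := hact.exists_hasChar (card_symMat_ne_zero ringChar_complex_ne) ⟨B, hB⟩
  obtain ⟨C, hC, rfl⟩ := exists_chiOf hψ h2 χ
  obtain ⟨c, -, l, rfl⟩ := hL C hC w hw0 hw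
  obtain ⟨i, hi, hc⟩ : ∃ i, l i ≠ 0 ∧ c ≠ 0 := by
    have hne : c • vecMulVec l l ≠ 0 := fun h => hχ1 (DFunLike.ext _ _ fun B => by
      rw [h]; simp [chiOf_apply])
    have hc : c ≠ 0 := fun h => hne (by rw [h, zero_smul])
    by_contra hcon
    simp only [not_exists, not_and] at hcon
    exact hne (by
      rw [show l = 0 from funext fun i => by_contra fun h => hcon i h hc, vecMulVec_zero, smul_zero])
  set c₀ := c * l i ^ 2 with hc₀
  have hc₀0 : c₀ ≠ 0 := mul_ne_zero hc (pow_ne_zero 2 hi)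
  have hwv : WV ρ ψ (H48.Weil.mulVecL (Pi.single i 1) : V) c₀ w := by
    intro e
    rw [tv_mulVecL]
    have := hw (sqMat e (Pi.single i 1))
    rwa [chiOf_rankOne, dotProduct_single, mul_one] at this
  have hL₀ := low_single hψ h2 hn hL hnf hw0 hc₀0 hwv
  obtain ⟨k, hk, hk0, r, hr, hkr⟩ : ∃ k ∈ ({1, ε} : Set F), k ≠ 0 ∧
      ∃ r : F, r ≠ 0 ∧ k * -2⁻¹ * r ^ 2 = c₀ := by
    have hne : -2 * c₀ ≠ 0 := mul_ne_zero (neg_ne_zero.2 h2) hc₀0
    by_cases hsq : IsSquare (-2 * c₀)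
    · obtain ⟨r, hr⟩ := hsq
      exact ⟨1, by simp, one_ne_zero, r, fun h => hne (by rw [hr, h, mul_zero]),
        by rw [one_mul, pow_two, ← hr]; field_simp⟩
    · obtain ⟨r, hr⟩ := isSquare_mul_of_nonsquare h2 hε hsq
      have hε0 := isPrimitive_ne_zero hε
      refine ⟨ε, by simp, hε0, r / ε, div_ne_zero (fun h => mul_ne_zero hε0 hne (by
        rw [hr, h, mul_zero])) hε0, ?_⟩
      rw [div_pow, pow_two r, ← hr]
      field_simp
  refine ⟨k, hk, fun C hC v hv hrad => ?_⟩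
  have hrad' : ∀ B, ρ (radical B) v = chiOf ψ (k • C) B • v := fun B => by
    rw [hrad B, chiOf_mulShift]
  obtain ⟨c', hc', l', hl'⟩ := hL₀ (k • C) (hC.smul k) v hv hrad'
  obtain rfl : c' = c₀ := hc'
  refine ⟨-2⁻¹, rfl, r • l', ?_⟩
  apply smul_right_injective (Matrix (Fin n) (Fin n) F) hk0
  show k • C = k • _
  rw [hl', ← hkr, vecMulVec_smul, smul_vecMulVec, smul_smul, smul_smul, smul_smul]
  congr 1
  ring

end RankOne

end H12
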