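import Mathlib
import Cfsg.Agent.H48.OrbitOdd
import Cfsg.Agent.H48.RepBoundOdd

/-!
# The congruence orbit of a symmetric matrix of rank at least two
-/

set_option autoImplicit false

namespace H12

namespace RankOne

open Matrix H48

variable {F : Type*} [Field F]

/-- The congruence orbit. -/
def cOrb {n : ℕ} (C : Matrix (Fin n) (Fin n) F) : Set (Matrix (Fin n) (Fin n) F) :=
  {M | ∃ X, IsUnit X ∧ M = Xᵀ * C * X}

theorem cOrb_symm {n : ℕ} {C M : Matrix (Fin n) (Fin n) F} (hC : C.IsSymm) (hM : M ∈ cOrb C) :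
    M.IsSymm := by
  obtain ⟨X, -, rfl⟩ := hM
  show (_ : Matrix (Fin n) (Fin n) F)ᵀ = _
  simp [Matrix.transpose_mul, hC.eq, Matrix.mul_assoc]

theorem mul_mem_cOrb {n : ℕ} {C M X : Matrix (Fin n) (Fin n) F} (hM : M ∈ cOrb C) (hX : IsUnit X) :
    Xᵀ * M * X ∈ cOrb C := by
  obtain ⟨Y, hY, rfl⟩ := hM
  exact ⟨Y * X, hY.mul hX, by simp [Matrix.transpose_mul, Matrix.mul_assoc]⟩

theorem quad_congr {n : ℕ} (C X : Matrix (Fin n) (Fin n) F) (v : Fin n → F) :
    v ⬝ᵥ (Xᵀ * C * X) *ᵥ v = (X *ᵥ v) ⬝ᵥ C *ᵥ (X *ᵥ v) := by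
  rw [Matrix.mul_assoc, ← mulVec_mulVec, dotProduct_mulVec v Xᵀ, vecMul_transpose, ← mulVec_mulVec]

theorem symm_swap {n : ℕ} {C : Matrix (Fin n) (Fin n) F} (hC : C.IsSymm) (x y : Fin n → F) :
    x ⬝ᵥ C *ᵥ y = y ⬝ᵥ C *ᵥ x := by
  rw [dotProduct_mulVec, ← mulVec_transpose, hC.eq, dotProduct_comm]

theorem isSymm_vecMulVec {n : ℕ} (u : Fin n → F) : (vecMulVec u u).IsSymm :=
  Matrix.IsSymm.ext fun i j => by simp [vecMulVec, mul_comm]

/-- Two orthogonal anisotropic vectors. -/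
theorem exists_two_orth {n : ℕ} (h2 : (2 : F) ≠ 0) {C : Matrix (Fin n) (Fin n) F} (hC : C.IsSymm)
    (hrk : ∀ (c : F) (l : Fin n → F), C ≠ c • vecMulVec l l) :
    ∃ v z : Fin n → F, v ⬝ᵥ C *ᵥ v ≠ 0 ∧ z ⬝ᵥ C *ᵥ z ≠ 0 ∧ v ⬝ᵥ C *ᵥ z = 0 := by
  obtain ⟨v, hv⟩ : ∃ v, v ⬝ᵥ C *ᵥ v ≠ 0 := by
    by_contra hcon
    refine hrk 0 0 ?_
    rw [eq_zero_of_quad_eq_zero h2 hC fun v => by_contra fun h => hcon ⟨v, h⟩, zero_smul]
  set b := v ⬝ᵥ C *ᵥ v with hb
  set u := C *ᵥ v with hu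
  obtain ⟨z, hz⟩ : ∃ z, z ⬝ᵥ (C - b⁻¹ • vecMulVec u u) *ᵥ z ≠ 0 := by
    by_contra hcon
    refine hrk b⁻¹ u (sub_eq_zero.1 (eq_zero_of_quad_eq_zero h2 (hC.sub ((isSymm_vecMulVec u).smul _))
      fun z => by_contra fun h => hcon ⟨z, h⟩))
  have hk : v ⬝ᵥ C *ᵥ z = u ⬝ᵥ z := by rw [symm_swap hC, ← hu, dotProduct_comm]
  refine ⟨v, z - ((u ⬝ᵥ z) / b) • v, hv, ?_, ?_⟩
  · convert hz using 1
    rw [sub_mulVec, dotProduct_sub, smul_mulVec, dotProduct_smul, quad_vecMulVec, mulVec_sub,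
      mulVec_smul, dotProduct_sub, sub_dotProduct, sub_dotProduct, smul_dotProduct, dotProduct_smul,
      smul_dotProduct, dotProduct_smul, ← hu, ← hb, dotProduct_comm z u, hk, smul_eq_mul,
      smul_eq_mul, smul_eq_mul, smul_eq_mul]
    field_simp
    ring
  · rw [mulVec_sub, mulVec_smul, dotProduct_sub, dotProduct_smul, ← hu, ← hb, hk, smul_eq_mul,
      div_mul_cancel₀ _ hv, sub_self]

variable [Fintype F]

/-- A binary anisotropic diagonal form takes every value. -/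
theorem exists_binary (hodd : Odd (Fintype.card F)) {a b : F} (ha : a ≠ 0) (hb : b ≠ 0) (c : F) :
    ∃ α β : F, a * α ^ 2 + b * β ^ 2 = c := by
  obtain ⟨α, β, h⟩ := FiniteField.exists_root_sum_quadratic
    (f := Polynomial.C a * Polynomial.X ^ 2)
    (g := Polynomial.C b * Polynomial.X ^ 2 + Polynomial.C (-c))
    (Polynomial.degree_C_mul_X_pow 2 ha)
    (by
      rw [Polynomial.degree_add_C (by rw [Polynomial.degree_C_mul_X_pow 2 hb]; decide)]
      exact Polynomial.degree_C_mul_X_pow 2 hb)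
    (Nat.odd_iff.1 hodd)
  simp only [Polynomial.eval_mul, Polynomial.eval_C, Polynomial.eval_pow, Polynomial.eval_X,
    Polynomial.eval_add] at h
  exact ⟨α, β, by linear_combination h⟩

/-- There are at least `q^(n-2)` isotropic vectors. -/
theorem card_isotropic_ge (hodd : Odd (Fintype.card F)) {n : ℕ} {C : Matrix (Fin n) (Fin n) F}
    (hC : C.IsSymm) {v z : Fin n → F} (hv : v ⬝ᵥ C *ᵥ v ≠ 0) (hz : z ⬝ᵥ C *ᵥ z ≠ 0)
    (hvz : v ⬝ᵥ C *ᵥ z = 0) :
    Fintype.card F ^ (n - 2) ≤ Nat.card {x : Fin n → F // x ⬝ᵥ C *ᵥ x = 0} := by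
  classical
  let φ : (Fin n → F) →ₗ[F] F × F :=
    { toFun := fun x => ((C *ᵥ v) ⬝ᵥ x, (C *ᵥ z) ⬝ᵥ x)
      map_add' := fun x y => by simp [dotProduct_add]
      map_smul' := fun c x => by simp [dotProduct_smul] }
  have hker : n - 2 ≤ Module.finrank F (LinearMap.ker φ) := by
    have h := LinearMap.finrank_range_add_finrank_ker φ
    have h' := Submodule.finrank_le (LinearMap.range φ)
    rw [Module.finrank_fintype_fun_eq_card, Fintype.card_fin] at h
    rw [Module.finrank_prod, Module.finrank_self] at h'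
    omega
  have hcard : Fintype.card F ^ (n - 2) ≤ Nat.card (LinearMap.ker φ) := by
    rw [Nat.card_eq_fintype_card, Module.card_eq_pow_finrank (K := F) (V := LinearMap.ker φ)]
    exact Nat.pow_le_pow_right Fintype.card_pos hker
  refine hcard.trans ?_
  choose α β hαβ using fun w : LinearMap.ker φ => exists_binary hodd hv hz (-(w.1 ⬝ᵥ C *ᵥ w.1))
  have hw : ∀ w : LinearMap.ker φ, v ⬝ᵥ C *ᵥ w.1 = 0 ∧ z ⬝ᵥ C *ᵥ w.1 = 0 := fun w => by
    have h := LinearMap.mem_ker.1 w.2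
    simp only [φ, LinearMap.coe_mk, AddHom.coe_mk, Prod.mk_eq_zero] at h
    constructor
    · rw [symm_swap hC, dotProduct_comm]; exact h.1
    · rw [symm_swap hC, dotProduct_comm]; exact h.2
  refine Nat.card_le_card_of_injective (fun w : LinearMap.ker φ =>
    (⟨w.1 + α w • v + β w • z, ?_⟩ : {x : Fin n → F // x ⬝ᵥ C *ᵥ x = 0})) ?_
  · simp only [mulVec_add, mulVec_smul, dotProduct_add, add_dotProduct, smul_dotProduct,
      dotProduct_smul, smul_eq_mul, symm_swap hC w.1 v, symm_swap hC w.1 z, symm_swap hC z v,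
      (hw w).1, (hw w).2, hvz]
    linear_combination hαβ w
  · intro w w' h
    have h' := congrArg Subtype.val h
    have e1 := congrArg (fun x => v ⬝ᵥ C *ᵥ x) h'
    have e2 := congrArg (fun x => z ⬝ᵥ C *ᵥ x) h'
    simp only [mulVec_add, mulVec_smul, dotProduct_add, dotProduct_smul, smul_eq_mul, (hw w).1,
      (hw w).2, (hw w').1, (hw w').2, hvz, symm_swap hC z v, zero_add, mul_zero, add_zero] at e1 e2
    have a1 : α w = α w' := mul_right_cancel₀ hv e1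
    have a2 : β w = β w' := mul_right_cancel₀ hz e2
    apply Subtype.ext
    change w.1 + α w • v + β w • z = w'.1 + α w' • v + β w' • z at h'
    rw [a1, a2] at h'
    exact add_right_cancel (add_right_cancel h')

section Corner

variable {m : ℕ}

/-- The inclusion of the last `m` coordinates. -/
def incl (m : ℕ) (F : Type*) [Field F] : Matrix (Fin (m + 1)) (Fin m) F :=
  (1 : Matrix (Fin (m + 1)) (Fin (m + 1)) F).submatrix id Fin.succ

omit [Fintype F] in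
theorem incl_transpose_mul : (incl m F)ᵀ * incl m F = 1 := by
  ext i j
  simp [incl, Matrix.mul_apply, Matrix.one_apply]

omit [Fintype F] in
theorem incl_mul_transpose :
    incl m F * (incl m F)ᵀ = 1 - vecMulVec (Pi.single 0 1) (Pi.single 0 1) := by
  ext i j
  induction i using Fin.cases <;> induction j using Fin.cases <;>
    simp [incl, Matrix.mul_apply, Matrix.one_apply, vecMulVec, Pi.single_apply, Fin.succ_ne_zero,
      (Fin.succ_ne_zero _).symm]

/-- The symmetric matrix with first row `x` and corner `B`. -/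
def glue (x : Fin (m + 1) → F) (B : Matrix (Fin m) (Fin m) F) :
    Matrix (Fin (m + 1)) (Fin (m + 1)) F :=
  (x 0)⁻¹ • vecMulVec x x + incl m F * B * (incl m F)ᵀ

omit [Fintype F] in
theorem glue_row {x : Fin (m + 1) → F} (hx : x 0 ≠ 0) (B : Matrix (Fin m) (Fin m) F) :
    glue x B 0 = x := by
  funext j
  have h0 : (incl m F * B * (incl m F)ᵀ) 0 j = 0 := by
    simp [Matrix.mul_apply, incl, Matrix.one_apply, (Fin.succ_ne_zero _).symm]
  rw [glue, Matrix.add_apply, Matrix.smul_apply, vecMulVec_apply, h0, smul_eq_mul, add_zero,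
    inv_mul_cancel_left₀ hx]

omit [Fintype F] in
theorem glue_congr {x y : Fin (m + 1) → F} (hx : x 0 ≠ 0) (hxy : x 0 = y 0)
    {X : Matrix (Fin m) (Fin m) F} (hX : IsUnit X) (B : Matrix (Fin m) (Fin m) F) :
    ∃ Z : Matrix (Fin (m + 1)) (Fin (m + 1)) F, IsUnit Z ∧
      Zᵀ * glue x B * Z = glue y (Xᵀ * B * X) := by
  set e : Fin (m + 1) → F := Pi.single 0 1
  set u : Fin (m + 1) → F := (x 0)⁻¹ • x
  set w : Fin (m + 1) → F := (y 0)⁻¹ • y
  set J := incl m F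
  have hJJ : Jᵀ * J = 1 := incl_transpose_mul
  have hJJ' : J * Jᵀ = 1 - vecMulVec e e := incl_mul_transpose
  have heJ : e ᵥ* J = 0 := by
    funext j
    simp [e, J, incl, Matrix.vecMul, single_dotProduct, Matrix.one_apply, (Fin.succ_ne_zero _).symm]
  have hJe : Jᵀ *ᵥ e = 0 := by rw [mulVec_transpose, heJ]
  have hue : e ⬝ᵥ u = 1 := by simp [e, u, inv_mul_cancel₀ hx]
  -- `S u A` sends `e` to `u` and acts on the other coordinates by `A`
  let S : (Fin (m + 1) → F) → Matrix (Fin m) (Fin m) F → Matrix (Fin (m + 1)) (Fin (m + 1)) F :=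
    fun v A => vecMulVec v e + J * A * Jᵀ
  have hSe : ∀ v A, S v A *ᵥ e = v := fun v A => by
    simp only [S, add_mulVec, vecMulVec_mulVec, Matrix.mul_assoc, ← mulVec_mulVec, hJe, mulVec_zero,
      add_zero]
    simp [e]
  have hSJ : ∀ v A, S v A * J = J * A := fun v A => by
    simp only [S, Matrix.add_mul, Matrix.mul_assoc, hJJ, Matrix.mul_one, vecMulVec_mul, heJ]
    rw [show vecMulVec v (0 : Fin m → F) = 0 by ext; simp [vecMulVec_apply], zero_add]
  have hdec : ∀ M : Matrix (Fin (m + 1)) (Fin (m + 1)) F,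
      M = vecMulVec (M *ᵥ e) e + M * J * Jᵀ := fun M => by
    rw [← mul_vecMulVec, Matrix.mul_assoc, hJJ', Matrix.mul_sub, Matrix.mul_one, add_sub_cancel]
  have hSu : ∀ v A, e ⬝ᵥ v = 1 → IsUnit A → IsUnit (S v A) := fun v A hv hA => by
    obtain ⟨Y, rfl⟩ := hA
    refine IsUnit.of_mul_eq_one (S (e - (J * (↑Y⁻¹ : Matrix (Fin m) (Fin m) F) * Jᵀ) *ᵥ v)
      (↑Y⁻¹ : Matrix (Fin m) (Fin m) F)) ?_
    have k1 : S v ↑Y * (J * (↑Y⁻¹ : Matrix (Fin m) (Fin m) F) * Jᵀ) = J * Jᵀ := by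
      rw [← Matrix.mul_assoc, ← Matrix.mul_assoc, hSJ, Matrix.mul_assoc J, Units.mul_inv,
        Matrix.mul_one]
    have k2 : ∀ v', S v ↑Y * S v' (↑Y⁻¹ : Matrix (Fin m) (Fin m) F) * J = J := fun v' => by
      rw [Matrix.mul_assoc, hSJ, ← Matrix.mul_assoc, hSJ, Matrix.mul_assoc, Units.mul_inv,
        Matrix.mul_one]
    rw [hdec (_ * _), k2, ← mulVec_mulVec, hSe, mulVec_sub, hSe, mulVec_mulVec, k1, hJJ', sub_mulVec,
      one_mulVec, vecMulVec_mulVec, hv]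
    simp
  have hwe : e ⬝ᵥ w = 1 := by simp [e, w, inv_mul_cancel₀ (hxy ▸ hx)]
  -- move `x` to the axis and back
  have hfac : ∀ v A B, S v A * (x 0 • vecMulVec e e + J * B * Jᵀ) * (S v A)ᵀ =
      x 0 • vecMulVec v v + J * (A * B * Aᵀ) * Jᵀ := fun v A B => by
    rw [Matrix.mul_add, Matrix.add_mul, Matrix.mul_smul, Matrix.smul_mul, mul_vecMulVec, hSe,
      vecMulVec_mul, vecMul_transpose, hSe, ← Matrix.mul_assoc, ← Matrix.mul_assoc, hSJ]
    congr 1
    have : Jᵀ * (S v A)ᵀ = Aᵀ * Jᵀ := by rw [← transpose_mul, hSJ, transpose_mul]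
    rw [Matrix.mul_assoc _ Jᵀ, this]
    simp only [Matrix.mul_assoc]
  have hg : ∀ (z : Fin (m + 1) → F) (B : Matrix (Fin m) (Fin m) F), z 0 = x 0 →
      glue z B = x 0 • vecMulVec ((z 0)⁻¹ • z) ((z 0)⁻¹ • z) + J * B * Jᵀ := fun z B hz => by
    rw [glue, smul_vecMulVec, vecMulVec_smul, smul_smul, smul_smul, hz]
    field_simp
    rfl
  obtain ⟨Su, hSu'⟩ := hSu u 1 hue isUnit_one
  refine ⟨((S w Xᵀ) * (↑Su⁻¹ : Matrix (Fin (m + 1)) (Fin (m + 1)) F))ᵀ, ?_, ?_⟩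
  · rw [Matrix.isUnit_transpose]
    exact (hSu w Xᵀ hwe ((Matrix.isUnit_transpose X).2 hX)).mul (Su⁻¹).isUnit
  · rw [hg x B rfl, hg y _ hxy.symm, transpose_transpose, transpose_mul]
    have e1 : x 0 • vecMulVec u u + J * B * Jᵀ =
        (↑Su : Matrix (Fin (m + 1)) (Fin (m + 1)) F) * (x 0 • vecMulVec e e + J * B * Jᵀ) *
          (↑Su : Matrix (Fin (m + 1)) (Fin (m + 1)) F)ᵀ := by
      rw [hSu', hfac, Matrix.one_mul, transpose_one, Matrix.mul_one]
    rw [e1]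
    have e2 : (↑Su : Matrix (Fin (m + 1)) (Fin (m + 1)) F)ᵀ * (↑Su⁻¹ : Matrix (Fin (m + 1)) (Fin (m + 1)) F)ᵀ = 1 := by
      rw [← transpose_mul, Units.inv_mul, transpose_one]
    calc S w Xᵀ * (↑Su⁻¹ : Matrix (Fin (m + 1)) (Fin (m + 1)) F) * ((↑Su : Matrix (Fin (m + 1)) (Fin (m + 1)) F) *
          (x 0 • vecMulVec e e + J * B * Jᵀ) * (↑Su : Matrix (Fin (m + 1)) (Fin (m + 1)) F)ᵀ) *
          ((↑Su⁻¹ : Matrix (Fin (m + 1)) (Fin (m + 1)) F)ᵀ * (S w Xᵀ)ᵀ)
        = S w Xᵀ * ((↑Su⁻¹ : Matrix (Fin (m + 1)) (Fin (m + 1)) F) * (↑Su : Matrix (Fin (m + 1)) (Fin (m + 1)) F)) *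
          (x 0 • vecMulVec e e + J * B * Jᵀ) *
          ((↑Su : Matrix (Fin (m + 1)) (Fin (m + 1)) F)ᵀ * (↑Su⁻¹ : Matrix (Fin (m + 1)) (Fin (m + 1)) F)ᵀ) *
          (S w Xᵀ)ᵀ := by simp only [Matrix.mul_assoc]
      _ = _ := by rw [Units.inv_mul, e2, Matrix.mul_one, Matrix.mul_one, hfac, transpose_transpose]

omit [Fintype F] in
theorem glue_injective {x x' : Fin (m + 1) → F} (hx : x 0 ≠ 0) (hx' : x' 0 ≠ 0)
    {B B' : Matrix (Fin m) (Fin m) F} (h : glue x B = glue x' B') : x = x' ∧ B = B' := by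
  have e : x = x' := by rw [← glue_row hx B, h, glue_row hx' B']
  subst e
  refine ⟨rfl, ?_⟩
  have h' := congrArg (fun M => (incl m F)ᵀ * M * incl m F) (add_left_cancel h)
  simp only [← Matrix.mul_assoc, incl_transpose_mul, Matrix.one_mul] at h'
  simpa only [Matrix.mul_assoc, incl_transpose_mul, Matrix.mul_one] using h'

omit [Fintype F] in
theorem exists_glue {A : Matrix (Fin (m + 1)) (Fin (m + 1)) F} (hA : A.IsSymm) (h0 : A 0 0 ≠ 0) :
    ∃ B : Matrix (Fin m) (Fin m) F, B.IsSymm ∧ A = glue (A 0) B := by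
  set J := incl m F
  set e : Fin (m + 1) → F := Pi.single 0 1
  set A' := A - (A 0 0)⁻¹ • vecMulVec (A 0) (A 0) with hA'
  have hs : A'.IsSymm := hA.sub ((isSymm_vecMulVec _).smul _)
  have he : A' *ᵥ e = 0 := by
    funext i
    rw [mulVec_single_one]
    simp only [hA', col_apply, Matrix.sub_apply, Matrix.smul_apply, vecMulVec_apply, smul_eq_mul,
      Pi.zero_apply]
    rw [mul_left_comm, inv_mul_cancel₀ h0, mul_one, hA.apply 0 i, sub_self]
  refine ⟨Jᵀ * A' * J, ?_, ?_⟩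
  · show (_ : Matrix (Fin m) (Fin m) F)ᵀ = _
    simp [Matrix.transpose_mul, hs.eq, Matrix.mul_assoc]
  · have hJJ' : J * Jᵀ = 1 - vecMulVec e e := incl_mul_transpose
    rw [glue, show incl m F * (Jᵀ * A' * J) * (incl m F)ᵀ = (J * Jᵀ) * A' * (J * Jᵀ) by
      simp only [J, Matrix.mul_assoc]]
    rw [hJJ', Matrix.sub_mul, Matrix.one_mul, vecMulVec_mul, ← mulVec_transpose, hs.eq, he,
      vecMulVec_zero, sub_zero, Matrix.mul_sub, Matrix.mul_one, mul_vecMulVec, he, zero_vecMulVec,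
      sub_zero, hA', add_sub_cancel]

/-- Elements of the orbit with non-zero corner. -/
theorem card_corner_ge (hodd : Odd (Fintype.card F)) (hm : 1 ≤ m)
    {C : Matrix (Fin (m + 1)) (Fin (m + 1)) F} (hC : C.IsSymm)
    (hrk : ∀ (c : F) (l : Fin (m + 1) → F), C ≠ c • vecMulVec l l) :
    Fintype.card F ^ m * (Fintype.card F - 1) * (Fintype.card F ^ m - 1) ≤
      2 * Nat.card {M : cOrb C // M.1 0 0 ≠ 0} := by
  classical
  have h2 := two_ne_zero_of_odd hodd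
  obtain ⟨v, z, hv, hz, hvz⟩ := exists_two_orth h2 hC hrk
  have hex : ∀ c : F, c ≠ 0 → ∃ B : Matrix (Fin m) (Fin m) F, B.IsSymm ∧ B ≠ 0 ∧
      glue (Pi.single 0 c) B ∈ cOrb C := by
    intro c hc
    obtain ⟨α, β, hαβ⟩ := exists_binary hodd hv hz c
    have hQ : (α • v + β • z) ⬝ᵥ C *ᵥ (α • v + β • z) = c := by
      simp only [mulVec_add, mulVec_smul, dotProduct_add, add_dotProduct, smul_dotProduct,
        dotProduct_smul, smul_eq_mul, symm_swap hC z v, hvz]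
      linear_combination hαβ
    have hw0 : α • v + β • z ≠ 0 := fun h => hc (by rw [← hQ, h]; simp)
    obtain ⟨Y, hY, eY⟩ := exists_col (0 : Fin (m + 1)) hw0
    have hA : Yᵀ * C * Y ∈ cOrb C := ⟨Y, hY, rfl⟩
    have hA00 : (Yᵀ * C * Y) 0 0 = c := by
      rw [← hQ, ← eY, ← quad_congr, mulVec_single_one, single_dotProduct, one_mul]
      rfl
    obtain ⟨B, hB, eB⟩ := exists_glue (cOrb_symm hC hA) (hA00 ▸ hc)
    refine ⟨B, hB, ?_, ?_⟩
    · rintro rfl
      refine hrk c⁻¹ ((Y⁻¹)ᵀ *ᵥ (Yᵀ * C * Y) 0) ?_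
      have hd := (Matrix.isUnit_iff_isUnit_det Y).1 hY
      rw [glue, Matrix.mul_zero, Matrix.zero_mul, add_zero, hA00] at eB
      rw [mulVec_transpose]
      calc C = (Y⁻¹)ᵀ * (Yᵀ * C * Y) * Y⁻¹ := by
            simp only [← Matrix.mul_assoc]
            rw [← transpose_mul, Matrix.mul_nonsing_inv _ hd, transpose_one, Matrix.one_mul,
              Matrix.mul_assoc, Matrix.mul_nonsing_inv _ hd, Matrix.mul_one]
        _ = _ := by
            conv_lhs => rw [eB]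
            rw [Matrix.mul_smul, Matrix.smul_mul, mul_vecMulVec, vecMulVec_mul, mulVec_transpose]
    · obtain ⟨Z, hZ, eZ⟩ := glue_congr (x := (Yᵀ * C * Y) 0) (y := Pi.single 0 c) (X := 1)
        (hA00 ▸ hc) (by simp [hA00]) isUnit_one B
      rw [transpose_one, Matrix.one_mul, Matrix.mul_one, ← eB] at eZ
      rw [← eZ]
      exact mul_mem_cOrb hA hZ
  choose B hB hB0 hBmem using hex
  let D := Σ x : {x : Fin (m + 1) → F // x 0 ≠ 0}, cOrb (B _ x.2)
  have hmem : ∀ p : D, glue p.1.1 p.2.1 ∈ cOrb C := by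
    rintro ⟨⟨x, hx⟩, M, X, hX, rfl⟩
    obtain ⟨Z, hZ, eZ⟩ := glue_congr (x := Pi.single 0 (x 0)) (y := x) (by simpa using hx)
      (by simp) hX (B _ hx)
    rw [← eZ]
    exact mul_mem_cOrb (hBmem _ hx) hZ
  have h00 : ∀ p : D, (glue p.1.1 p.2.1) 0 0 ≠ 0 := fun p => by rw [glue_row p.1.2]; exact p.1.2
  have hinj : Nat.card D ≤ Nat.card {M : cOrb C // M.1 0 0 ≠ 0} := by
    refine Nat.card_le_card_of_injective (fun p => ⟨⟨_, hmem p⟩, h00 p⟩) ?_
    rintro ⟨⟨x, hx⟩, M, hM⟩ ⟨⟨x', hx'⟩, M', hM'⟩ h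
    obtain ⟨rfl, rfl⟩ := glue_injective hx hx' (congrArg (fun q => q.1.1) h)
    rfl
  haveI : ∀ x : {x : Fin (m + 1) → F // x 0 ≠ 0}, Fintype (cOrb (B _ x.2)) := fun x => Fintype.ofFinite _
  have hcard : ∀ x : {x : Fin (m + 1) → F // x 0 ≠ 0},
      Fintype.card F ^ m - 1 ≤ 2 * Nat.card (cOrb (B _ x.2)) := fun x => by
    have := orbit_ge (C := B _ x.2) hodd hm (hB _ x.2) (hB0 _ x.2)
    change Fintype.card F ^ m ≤ 2 * Nat.card (cOrb (B _ x.2)) + 1 at this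
    omega
  have hD : Fintype.card {x : Fin (m + 1) → F // x 0 ≠ 0} * (Fintype.card F ^ m - 1) ≤
      2 * Nat.card D := by
    rw [Nat.card_sigma, Finset.mul_sum, ← Finset.card_univ, ← smul_eq_mul, ← Finset.sum_const]
    exact Finset.sum_le_sum fun x _ => hcard x
  have hx : Fintype.card {x : Fin (m + 1) → F // x 0 ≠ 0} =
      Fintype.card F ^ m * (Fintype.card F - 1) := by
    rw [← Nat.card_eq_fintype_card,
      Nat.card_congr (Equiv.subtypeEquiv (Fin.insertNthEquiv (fun _ => F) 0).symm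
        (q := fun p : F × (Fin m → F) => p.1 ≠ 0) (fun x => by simp)),
      Nat.card_congr (Equiv.prodSubtypeFstEquivSubtypeProd (p := fun a : F => a ≠ 0)),
      Nat.card_prod, Nat.card_eq_fintype_card, Nat.card_eq_fintype_card, Fintype.card_fun,
      Fintype.card_fin, Fintype.card_subtype_compl, Fintype.card_subtype_eq, mul_comm]
  rw [hx] at hD
  omega

/-- The orbit of a matrix of rank at least two. -/
theorem cOrb_ge (hodd : Odd (Fintype.card F)) {n : ℕ} (hn : 2 ≤ n)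
    {C : Matrix (Fin n) (Fin n) F} (hC : C.IsSymm)
    (hrk : ∀ (c : F) (l : Fin n → F), C ≠ c • vecMulVec l l) :
    ((Fintype.card F : ℝ) ^ n - 1) * ((Fintype.card F : ℝ) ^ n - Fintype.card F) /
      (2 * ((Fintype.card F : ℝ) + 1)) ≤ Nat.card (cOrb C) := by
  classical
  have h2 := two_ne_zero_of_odd hodd
  obtain ⟨m, rfl⟩ : ∃ m, n = m + 1 := ⟨n - 1, by omega⟩
  obtain ⟨v, z, hv, hz, hvz⟩ := exists_two_orth h2 hC hrk
  have hiso := card_isotropic_ge hodd hC hv hz hvz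
  have hK := card_corner_ge hodd (by omega) hC hrk
  set N := Fintype.card {x : Fin (m + 1) → F // x ⬝ᵥ C *ᵥ x ≠ 0} with hN
  haveI : Fintype (cOrb C) := Fintype.ofFinite _
  set e₀ : Fin (m + 1) → F := Pi.single 0 1
  have hleft : ∀ M : cOrb C,
      (Finset.univ.filter fun x : Fin (m + 1) → F => x ⬝ᵥ M.1 *ᵥ x ≠ 0).card = N := by
    rintro ⟨M, X, hX, rfl⟩
    rw [← Fintype.card_subtype, hN]
    have hd := (Matrix.isUnit_iff_isUnit_det X).1 hX
    refine Fintype.card_congr (Equiv.subtypeEquiv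
      { toFun := fun x => X *ᵥ x
        invFun := fun x => X⁻¹ *ᵥ x
        left_inv := fun x => by simp [Matrix.nonsing_inv_mul _ hd]
        right_inv := fun x => by simp [Matrix.mul_nonsing_inv _ hd] } fun x => ?_)
    show x ⬝ᵥ (Xᵀ * C * X) *ᵥ x ≠ 0 ↔ _
    rw [quad_congr]
    rfl
  have hright : ∀ x : Fin (m + 1) → F, x ≠ 0 →
      (Finset.univ.filter fun M : cOrb C => x ⬝ᵥ M.1 *ᵥ x ≠ 0).card =
        Nat.card {M : cOrb C // M.1 0 0 ≠ 0} := by
    intro x hx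
    obtain ⟨Y, hY, eY⟩ := exists_col (0 : Fin (m + 1)) hx
    have hd := (Matrix.isUnit_iff_isUnit_det Y).1 hY
    rw [← Fintype.card_subtype, ← Nat.card_eq_fintype_card]
    refine Nat.card_congr (Equiv.subtypeEquiv
      { toFun := fun M => ⟨Yᵀ * M.1 * Y, mul_mem_cOrb M.2 hY⟩
        invFun := fun M => ⟨(Y⁻¹)ᵀ * M.1 * Y⁻¹, mul_mem_cOrb M.2 (Matrix.isUnit_nonsing_inv_iff.2 hY)⟩
        left_inv := fun M => Subtype.ext (by
          show (Y⁻¹)ᵀ * (Yᵀ * M.1 * Y) * Y⁻¹ = M.1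
          simp only [← Matrix.mul_assoc]
          rw [← transpose_mul, Matrix.mul_nonsing_inv _ hd, transpose_one, Matrix.one_mul,
            Matrix.mul_assoc, Matrix.mul_nonsing_inv _ hd, Matrix.mul_one])
        right_inv := fun M => Subtype.ext (by
          show Yᵀ * ((Y⁻¹)ᵀ * M.1 * Y⁻¹) * Y = M.1
          simp only [← Matrix.mul_assoc]
          rw [← transpose_mul, Matrix.nonsing_inv_mul _ hd, transpose_one, Matrix.one_mul,
            Matrix.mul_assoc, Matrix.nonsing_inv_mul _ hd, Matrix.mul_one]) } fun M => ?_)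
    show x ⬝ᵥ M.1 *ᵥ x ≠ 0 ↔ (Yᵀ * M.1 * Y) 0 0 ≠ 0
    rw [← eY, ← quad_congr, mulVec_single_one, single_dotProduct, one_mul]
    rfl
  have hdc := Finset.sum_comm (s := (Finset.univ : Finset (cOrb C)))
    (t := (Finset.univ : Finset (Fin (m + 1) → F)))
    (f := fun M x => if x ⬝ᵥ M.1 *ᵥ x ≠ 0 then 1 else 0)
  simp only [← Finset.card_filter, hleft, Finset.sum_const, Finset.card_univ, smul_eq_mul] at hdc
  rw [← Finset.add_sum_erase _ _ (Finset.mem_univ (0 : Fin (m + 1) → F)),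
    Finset.sum_congr rfl fun x hx => hright x (Finset.ne_of_mem_erase hx), Finset.sum_const,
    Finset.card_erase_of_mem (Finset.mem_univ _), Finset.card_univ, Fintype.card_fun,
    Fintype.card_fin, smul_eq_mul] at hdc
  simp only [zero_dotProduct, ne_eq, not_true_eq_false, Finset.filter_false, Finset.card_empty,
    zero_add] at hdc
  have hNle : N + Fintype.card F ^ (m + 1 - 2) ≤ Fintype.card F ^ (m + 1) := by
    have e := Fintype.card_subtype_compl (fun x : Fin (m + 1) → F => x ⬝ᵥ C *ᵥ x = 0)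
    rw [Fintype.card_fun, Fintype.card_fin] at e
    rw [Nat.card_eq_fintype_card] at hiso
    have h' := Fintype.card_subtype_le (fun x : Fin (m + 1) → F => x ⬝ᵥ C *ᵥ x = 0)
    rw [Fintype.card_fun, Fintype.card_fin] at h'
    change N = _ at e
    omega
  obtain ⟨j, rfl⟩ : ∃ j, m = j + 1 := ⟨m - 1, by omega⟩
  rw [show j + 1 + 1 - 2 = j by omega] at hNle
  have hq3 : 3 ≤ Fintype.card F := by
    have := Fintype.one_lt_card (α := F)
    obtain ⟨k, hk⟩ := hodd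
    omega
  have hqj : 1 ≤ Fintype.card F ^ (j + 1) := Nat.one_le_pow _ _ (by omega)
  have hqj2 : 1 ≤ Fintype.card F ^ (j + 1 + 1) := Nat.one_le_pow _ _ (by omega)
  rw [← Nat.card_eq_fintype_card] at hdc
  set O := Nat.card (cOrb C)
  set Kc := Nat.card {M : cOrb C // M.1 0 0 ≠ 0}
  have hdc' : (O : ℝ) * N = ((Fintype.card F : ℝ) ^ (j + 1 + 1) - 1) * Kc := by
    have := congrArg (Nat.cast (R := ℝ)) hdc
    push_cast [Nat.cast_sub hqj2] at this
    exact this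
  have hK' : (Fintype.card F : ℝ) ^ (j + 1) * ((Fintype.card F : ℝ) - 1) *
      ((Fintype.card F : ℝ) ^ (j + 1) - 1) ≤ 2 * Kc := by
    have := (Nat.cast_le (α := ℝ)).2 hK
    push_cast [Nat.cast_sub hqj, Nat.cast_sub (show 1 ≤ Fintype.card F by omega)] at this
    exact this
  have hN' : (N : ℝ) + (Fintype.card F : ℝ) ^ j ≤ (Fintype.card F : ℝ) ^ (j + 1 + 1) := by
    exact_mod_cast hNle
  have hq : (3 : ℝ) ≤ Fintype.card F := by exact_mod_cast hq3
  set q : ℝ := ((Fintype.card F : ℕ) : ℝ) with hqdef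
  have hpos : 0 < q ^ j * (q - 1) := mul_pos (pow_pos (by linarith) _) (by linarith)
  rw [div_le_iff₀ (by linarith)]
  have hQ1 : 0 ≤ q ^ (j + 1 + 1) - 1 := by
    have := one_le_pow₀ (M₀ := ℝ) (a := q) (n := j + 1 + 1) (by linarith)
    linarith
  refine le_of_mul_le_mul_left ?_ hpos
  calc q ^ j * (q - 1) * ((q ^ (j + 1 + 1) - 1) * (q ^ (j + 1 + 1) - q))
      = (q ^ (j + 1 + 1) - 1) * (q ^ (j + 1) * (q - 1) * (q ^ (j + 1) - 1)) := by ring
    _ ≤ (q ^ (j + 1 + 1) - 1) * (2 * Kc) := mul_le_mul_of_nonneg_left hK' hQ1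
    _ = 2 * ((O : ℝ) * N) := by rw [hdc']; ring
    _ ≤ 2 * ((O : ℝ) * (q ^ (j + 1 + 1) - q ^ j)) := by
        have : (O : ℝ) * N ≤ O * (q ^ (j + 1 + 1) - q ^ j) :=
          mul_le_mul_of_nonneg_left (by linarith) (Nat.cast_nonneg _)
        linarith
    _ = q ^ j * (q - 1) * ((O : ℝ) * (2 * (q + 1))) := by ring

end Corner

end RankOne

end H12
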