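import Mathlib
import Cfsg.Agent.H12.Weil.Classify
import Cfsg.Agent.H12.Weil.Orbit
import Cfsg.Agent.H12.Basic
import Cfsg.Agent.H12.Equivalent

/-!
# The four Weil characters
-/

set_option autoImplicit false

namespace H12

namespace RankOne

open Matrix H48 Cfsg

variable {n : ℕ} {F : Type*} [Field F] [Fintype F] [DecidableEq F]

local notation "V" => (Fin n ⊕ Fin n → F)
local notation "Sp" => Matrix.symplecticGroup (Fin n) F

variable {ψ : AddChar F ℂ}

/-- The multiplication operator of a symmetric matrix. -/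
def mulQ (ψ : AddChar F ℂ) (B : symMat n F) : Module.End ℂ (Weil.Hs n F) where
  toFun f x := ψ (-(2⁻¹ * (x ⬝ᵥ B.1 *ᵥ x))) * f x
  map_add' f g := by ext x; simp [mul_add]
  map_smul' c f := by ext x; simp [mul_left_comm]

theorem isInt_mulQ (h2 : (2 : F) ≠ 0) (B : symMat n F) : Weil.IsInt ψ (radical B) (mulQ ψ B) := by
  intro v
  apply LinearMap.ext
  intro h
  funext x
  show ψ _ * Weil.T ψ v h x = Weil.T ψ (radical B • v) (mulQ ψ B h) x
  have eg : radical B • v = (fromBlocks 1 B.1 0 1) *ᵥ v := rfl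
  have eL : Weil.vL (radical B • v) = Weil.vL v + B.1 *ᵥ Weil.vR v := by
    rw [eg, fromBlocks_mulVec]; funext k
    simp [Weil.vL, Weil.vR, Function.comp]
    rfl
  have eR : Weil.vR (radical B • v) = Weil.vR v := by
    rw [eg, fromBlocks_mulVec]; funext k
    simp [Weil.vR]
  rw [Weil.T_apply, Weil.T_apply, eL, eR]
  show _ = ψ _ * (ψ _ * h (x + Weil.vR v))
  rw [← mul_assoc, ← mul_assoc, ← AddChar.map_add_eq_mul, ← AddChar.map_add_eq_mul]
  congr 2
  have hs : ∀ a b : Fin n → F, a ⬝ᵥ B.1 *ᵥ b = b ⬝ᵥ B.1 *ᵥ a := fun a b => by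
    rw [dotProduct_mulVec, ← mulVec_transpose, show B.1ᵀ = B.1 from B.2, dotProduct_comm]
  simp only [mulVec_add, add_dotProduct, dotProduct_add, dotProduct_comm (B.1 *ᵥ Weil.vR v),
    hs (Weil.vR v) x]
  field_simp
  ring

theorem chiOf_point (c : F) (x : Fin n → F) (B : symMat n F) :
    chiOf ψ (c • vecMulVec x x) B = ψ (c * (x ⬝ᵥ B.1 *ᵥ x)) := by
  rw [chiOf_apply, Matrix.smul_mul, Matrix.trace_smul, vecMulVec_mul, trace_vecMulVec, smul_eq_mul,
    dotProduct_comm x (x ᵥ* B.1), ← dotProduct_mulVec]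

/-- The radical acts by multiplications. -/
theorem weil_radical (hψ : ψ.IsPrimitive) (hodd : Odd (Fintype.card F)) (hn : 2 ≤ n)
    (B : symMat n F) : Weil.weil hψ hodd (radical B) = mulQ ψ B := by
  classical
  have h2 := two_ne_zero_of_odd hodd
  set δ : Weil.Hs n F := Pi.single 0 1
  have hex : ∀ B : symMat n F, ∃ c : ℂ, Weil.weil hψ hodd (radical B) δ = c • δ := fun B => by
    obtain ⟨c, hc⟩ := (isInt_mulQ h2 B).unique hψ
      (fun h => by simpa [mulQ, δ] using congrFun (LinearMap.congr_fun h δ) 0)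
      (Weil.weil_spec hψ hodd (radical B)).1
    refine ⟨c, ?_⟩
    rw [hc, LinearMap.smul_apply]
    congr 1
    funext x
    rcases eq_or_ne x 0 with rfl | hx
    · simp [mulQ]
    · simp [mulQ, δ, hx]
  choose lam hlam using hex
  have hδ : δ ≠ 0 := fun h => by simpa [δ] using congrFun h 0
  have hinj : Function.Injective fun c : ℂ => c • δ := smul_left_injective ℂ hδ
  let Λ : AddChar (symMat n F) ℂ :=
    { toFun := lam
      map_zero_eq_one' := hinj (by
        show lam 0 • δ = (1 : ℂ) • δ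
        rw [← hlam, radical_zero, map_one, Module.End.one_apply, one_smul])
      map_add_eq_mul' := fun a b => hinj (by
        show lam (a + b) • δ = (lam a * lam b) • δ
        rw [← hlam, radical_add, map_mul, Module.End.mul_apply, hlam b, map_smul, hlam a, smul_smul,
          mul_comm]) }
  obtain ⟨D, hD, hΛ⟩ := exists_chiOf hψ h2 Λ
  -- the character is invariant under congruence
  have hinv : ∀ A : Matrix (Fin n) (Fin n) F, IsUnit A → ∀ B, lam (congr' Aᵀ B) = lam B := by
    intro A hA B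
    have hdA := (Matrix.isUnit_iff_isUnit_det A).1 hA
    have hm : fromBlocks Aᵀ 0 0 A⁻¹ ∈ Matrix.symplecticGroup (Fin n) F := by
      rw [SymplecticGroup.fromBlocks_mem_iff]
      simp [← Matrix.transpose_mul, Matrix.mul_nonsing_inv _ hdA, Matrix.nonsing_inv_mul _ hdA]
    set g : Sp := ⟨_, hm⟩
    let L : Module.End ℂ (Weil.Hs n F) := LinearMap.funLeft ℂ ℂ fun x => A *ᵥ x
    have hL : Weil.IsInt ψ g L := by
      intro v
      apply LinearMap.ext
      intro h
      funext x
      show Weil.T ψ v h (A *ᵥ x) = Weil.T ψ _ (L h) x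
      have eg : g • v = (fromBlocks Aᵀ 0 0 A⁻¹) *ᵥ v := rfl
      have eL : Weil.vL (g • v) = Aᵀ *ᵥ Weil.vL v := by
        rw [eg, fromBlocks_mulVec]; funext k
        simp [Weil.vL, Function.comp]
        rfl
      have eR : Weil.vR (g • v) = A⁻¹ *ᵥ Weil.vR v := by
        rw [eg, fromBlocks_mulVec]; funext k
        simp [Weil.vR, Function.comp]
        rfl
      rw [Weil.T_apply, Weil.T_apply, eL, eR]
      show _ = _ * h (A *ᵥ (x + A⁻¹ *ᵥ Weil.vR v))
      have et : ∀ a b : Fin n → F, (Aᵀ *ᵥ a) ⬝ᵥ b = a ⬝ᵥ A *ᵥ b := fun a b => by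
        rw [mulVec_transpose, dotProduct_mulVec]
      rw [et, et, mulVec_add, mulVec_mulVec, Matrix.mul_nonsing_inv _ hdA, one_mulVec]
    obtain ⟨c, hc⟩ := hL.unique hψ (fun h => by
      simpa [L, δ] using congrFun (LinearMap.congr_fun h δ) 0) (Weil.weil_spec hψ hodd g).1
    have hLδ : L δ = δ := by
      funext x
      show δ (A *ᵥ x) = δ x
      rcases eq_or_ne x 0 with rfl | hx
      · rw [mulVec_zero]
      · have hAx : A *ᵥ x ≠ 0 := fun h => hx (by
          simpa [mulVec_mulVec, Matrix.nonsing_inv_mul _ hdA] using congrArg (A⁻¹ *ᵥ ·) h)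
        simp [δ, hx, hAx]
    have hg : Weil.weil hψ hodd g δ = c • δ := by rw [hc, LinearMap.smul_apply, hLδ]
    have hc0 : c ≠ 0 := by
      rintro rfl
      exact (Weil.weil_spec hψ hodd g).2.1 (by rw [hc, zero_smul])
    have e : radical (congr' Aᵀ B) * g = g * radical B := by
      apply Subtype.ext
      show fromBlocks 1 (Aᵀ * B.1 * Aᵀᵀ) 0 1 * fromBlocks Aᵀ 0 0 A⁻¹ =
        fromBlocks Aᵀ 0 0 A⁻¹ * fromBlocks 1 B.1 0 1
      simp [fromBlocks_multiply, Matrix.mul_assoc, Matrix.mul_nonsing_inv _ hdA]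
    have := congrArg (fun h => Weil.weil hψ hodd h δ) e
    simp only [map_mul, Module.End.mul_apply, hg, hlam, map_smul, smul_smul] at this
    exact mul_left_cancel₀ hc0 ((hinj this).trans (mul_comm _ _))
  have hD0 : D = 0 := by
    by_contra hne
    have hsub : ∀ M ∈ cOrb D, M = D := by
      rintro M ⟨X, hX, rfl⟩
      refine chiOf_injOn hψ h2 (show (Xᵀ * D * X).IsSymm by
        show (_ : Matrix (Fin n) (Fin n) F)ᵀ = _
        simp [Matrix.transpose_mul, hD.eq, Matrix.mul_assoc]) hD (DFunLike.ext _ _ fun B => ?_)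
      have h := hinv Xᵀ ((Matrix.isUnit_transpose X).2 hX) B
      rw [transpose_transpose] at h
      rw [← DFunLike.congr_fun hΛ B]
      show _ = lam B
      rw [← h, show lam (congr' X B) = Λ (congr' X B) from rfl, DFunLike.congr_fun hΛ, chiOf_apply,
        chiOf_apply]
      congr 1
      show (Xᵀ * D * X * B.1).trace = (D * (X * B.1 * Xᵀ)).trace
      rw [Matrix.mul_assoc, Matrix.trace_mul_comm, ← Matrix.mul_assoc, Matrix.mul_assoc _ Xᵀ D,
        Matrix.trace_mul_comm (X * B.1) (Xᵀ * D), Matrix.mul_assoc Xᵀ D, Matrix.trace_mul_comm,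
        Matrix.mul_assoc D]
    have h1 := orbit_ge hodd (by omega) hD hne
    haveI : Subsingleton (cOrb D) := ⟨fun a b => Subtype.ext ((hsub _ a.2).trans (hsub _ b.2).symm)⟩
    have h3 : Nat.card (cOrb D) ≤ 1 := Finite.card_le_one_iff_subsingleton.2 inferInstance
    change Fintype.card F ^ n ≤ 2 * Nat.card (cOrb D) + 1 at h1
    have h4 : Fintype.card F ^ 2 ≤ Fintype.card F ^ n := Nat.pow_le_pow_right Fintype.card_pos hn
    have h5 := Fintype.one_lt_card (α := F)
    nlinarith
  have hone : lam B = 1 := by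
    show Λ B = 1
    rw [DFunLike.congr_fun hΛ, hD0, chiOf_apply, Matrix.zero_mul, Matrix.trace_zero,
      AddChar.map_zero_eq_one]
  obtain ⟨c, hc⟩ := (isInt_mulQ h2 B).unique hψ
    (fun h => by simpa [mulQ, δ] using congrFun (LinearMap.congr_fun h δ) 0)
    (Weil.weil_spec hψ hodd (radical B)).1
  have h := congrFun (hlam B) 0
  rw [hc, hone] at h
  simp [mulQ, δ] at h
  rw [hc, h, one_smul]

/-- The Weil representation as a representation. -/
noncomputable def weilRep (hψ : ψ.IsPrimitive) (hodd : Odd (Fintype.card F)) :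
    Representation ℂ (Matrix.symplecticGroup (Fin n) F) (Weil.Hs n F) := Weil.weil hψ hodd

theorem low_weilRep (hψ : ψ.IsPrimitive) (hodd : Odd (Fintype.card F)) (hn : 2 ≤ n) :
    Low (weilRep (n := n) hψ hodd) ψ {(-2⁻¹ : F)} := by
  intro C hC f hf hrad
  obtain ⟨x, hx⟩ : ∃ x, f x ≠ 0 := by
    by_contra hcon
    exact hf (funext fun k => by_contra fun h => hcon ⟨k, h⟩)
  refine ⟨-2⁻¹, rfl, x, chiOf_injOn hψ (two_ne_zero_of_odd hodd) hC ?_ (DFunLike.ext _ _ fun B => ?_)⟩
  · exact (Matrix.IsSymm.ext fun i j => by simp [vecMulVec, mul_comm] : (vecMulVec x x).IsSymm).smul _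
  · have h := congrFun (hrad B) x
    rw [show weilRep hψ hodd (radical B) = mulQ ψ B from weil_radical hψ hodd hn B] at h
    change ψ _ * f x = chiOf ψ C B * f x at h
    rw [← mul_right_cancel₀ hx h, chiOf_point, neg_mul]

theorem K_weilRep (hψ : ψ.IsPrimitive) (hodd : Odd (Fintype.card F)) (hn : 2 ≤ n) (v : V) :
    K (weilRep hψ hodd) ψ v = Weil.T ψ v + Weil.T ψ (-v) := by
  have h2 := two_ne_zero_of_odd hodd
  have hlag : ∀ u : Fin n → F, K (weilRep hψ hodd) ψ (Weil.mulVecL u : V) =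
      Weil.T ψ (Weil.mulVecL u) + Weil.T ψ (-Weil.mulVecL u) := by
    intro u
    refine (Pi.basisFun ℂ (Fin n → F)).ext fun x => ?_
    rw [Pi.basisFun_apply]
    have hw : WV (weilRep hψ hodd) ψ (Weil.mulVecL u : V) (-2⁻¹ * (u ⬝ᵥ x) ^ 2)
        (Pi.single x 1) := by
      intro e
      rw [tv_mulVecL, show weilRep hψ hodd (radical (sqMat e u)) = mulQ ψ _ from
        weil_radical hψ hodd hn _]
      funext y
      rcases eq_or_ne y x with rfl | hy
      · show ψ _ * _ = ψ _ * _
        congr 2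
        show -(2⁻¹ * (y ⬝ᵥ (e • vecMulVec u u) *ᵥ y)) = _
        rw [smul_mulVec, dotProduct_smul, quad_vecMulVec, smul_eq_mul]
        ring
      · simp [mulQ, hy]
    rw [K_of_WV hψ h2 hw, show -(Weil.mulVecL u : V) = Weil.mulVecL (-u) by
      funext j; rcases j with j | j <;> simp [Weil.mulVecL]]
    funext y
    rw [LinearMap.add_apply, Pi.add_apply, Weil.T_mulVecL, Weil.T_mulVecL, Pi.smul_apply, smul_eq_mul]
    rcases eq_or_ne y x with rfl | hy
    · rw [neg_dotProduct]; ring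
    · simp [hy]
  rcases eq_or_ne v 0 with rfl | hv
  · have e : (0 : V) = Weil.mulVecL 0 := by funext j; rcases j with j | j <;> simp [Weil.mulVecL]
    conv_lhs => rw [e, hlag, ← e]
  obtain ⟨g, u, -, hg, -⟩ := exists_lagr_pair hn (sf_self v)
  rw [← hg]
  apply LinearMap.ext
  intro f
  obtain ⟨f, rfl⟩ : ∃ f', f = weilRep hψ hodd g f' :=
    ⟨weilRep hψ hodd g⁻¹ f, by rw [rho_rho, mul_inv_cancel, map_one, Module.End.one_apply]⟩
  rw [← rho_K, hlag, LinearMap.add_apply, map_add, LinearMap.add_apply]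
  have hi : ∀ w : V, weilRep hψ hodd g (Weil.T ψ w f) = Weil.T ψ (g • w) (weilRep hψ hodd g f) :=
    fun w => LinearMap.congr_fun ((Weil.weil_spec hψ hodd g).1 w) f
  rw [hi, hi, smul_neg]

theorem weilRep_no_fixed (hψ : ψ.IsPrimitive) (hodd : Odd (Fintype.card F)) (hn : 2 ≤ n)
    (f : Weil.Hs n F) (hfix : ∀ g, weilRep hψ hodd g f = f) : f = 0 := by
  have h2 := two_ne_zero_of_odd hodd
  have hsupp : ∀ x, x ≠ 0 → f x = 0 := by
    intro x hx
    by_contra hfx
    have e : chiOf ψ ((-2⁻¹ : F) • vecMulVec x x) = chiOf ψ 0 := DFunLike.ext _ _ fun B => by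
      have h := congrFun (hfix (radical B)) x
      rw [show weilRep hψ hodd (radical B) = mulQ ψ B from weil_radical hψ hodd hn B] at h
      change ψ _ * f x = f x at h
      rw [chiOf_point, neg_mul, mul_eq_right₀ hfx |>.1 h]
      simp [chiOf_apply]
    have e' := chiOf_injOn hψ h2
      ((Matrix.IsSymm.ext fun i j => by simp [vecMulVec, mul_comm] : (vecMulVec x x).IsSymm).smul _)
      isSymm_zero e
    obtain ⟨i, hi⟩ : ∃ i, x i ≠ 0 := by
      by_contra hcon
      exact hx (funext fun k => by_contra fun h => hcon ⟨k, h⟩)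
    have := congrFun (congrFun e' i) i
    simp [vecMulVec_apply, h2, hi] at this
  set a : Fin n → F := Pi.single ⟨0, by omega⟩ 1
  have ha : a ≠ 0 := fun h => by simpa [a] using congrFun h ⟨0, by omega⟩
  have hWV : WV (weilRep hψ hodd) ψ (Weil.trVec a : V) (-2⁻¹ * (0 : F) ^ 2) f := fun e => by
    rw [hfix]; simp
  have h := congrFun (K_of_WV hψ h2 hWV) 0
  rw [K_weilRep hψ hodd hn, LinearMap.add_apply, Pi.add_apply,
    show -(Weil.trVec a : V) = Weil.trVec (-a) by funext j; rcases j with j | j <;> simp [Weil.trVec],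
    Weil.T_trVec, Weil.T_trVec, zero_add, zero_add, hsupp a ha, hsupp (-a) (neg_ne_zero.2 ha)] at h
  simp [one_add_one_eq_two] at h
  funext x
  rcases eq_or_ne x 0 with rfl | hx
  · exact h
  · exact hsupp x hx

section Transfer

variable {M : Type*} [AddCommGroup M] [Module ℂ M] {M' : Type*} [AddCommGroup M'] [Module ℂ M']
  {ρ : Representation ℂ (Matrix.symplecticGroup (Fin n) F) M}
  {σ : Representation ℂ (Matrix.symplecticGroup (Fin n) F) M'}

theorem Low.of_injective {S : Set F} (hL : Low σ ψ S) (e : M →ₗ[ℂ] M') (he : Function.Injective e)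
    (hcomm : ∀ g w, e (ρ g w) = σ g (e w)) : Low ρ ψ S := fun C hC w hw hrad =>
  hL C hC (e w) (fun h => hw (he (h.trans (map_zero e).symm))) fun B => by
    rw [← hcomm, hrad, map_smul]

theorem noFixed_of_injective (hnf : ∀ u : M', (∀ g, σ g u = u) → u = 0) (e : M →ₗ[ℂ] M')
    (he : Function.Injective e) (hcomm : ∀ g w, e (ρ g w) = σ g (e w)) (u : M)
    (hu : ∀ g, ρ g u = u) : u = 0 :=
  he ((hnf (e u) fun g => by rw [← hcomm, hu]).trans (map_zero e).symm)

omit [DecidableEq F] in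
/-- Small representations without fixed vectors are irreducible. -/
theorem irreducible_of_no_fixed (hodd : Odd (Fintype.card F)) (hn : 1 ≤ n) [FiniteDimensional ℂ M]
    [Nontrivial M] (hnf : ∀ u : M, (∀ g, ρ g u = u) → u = 0)
    (hsmall : Module.finrank ℂ M + 1 < Fintype.card F ^ n) : ρ.IsIrreducible := by
  by_contra hirr
  obtain ⟨a, b, hab, ha, hb⟩ := H12.exists_proper_decomp' ρ hirr
  have hsum := Submodule.finrank_add_eq_of_isCompl hab
  have key : ∀ c : Subrepresentation ρ, Module.finrank ℂ c.toSubmodule ≠ 0 →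
      Fintype.card F ^ n ≤ 2 * Module.finrank ℂ c.toSubmodule + 1 := by
    intro c hc
    refine (trivial_or_ge hodd hn c.toRepresentation).resolve_left fun htriv => hc ?_
    have : c.toSubmodule = ⊥ := by
      rw [eq_bot_iff]
      intro u hu
      refine (Submodule.mem_bot ℂ).2 (hnf u fun g => ?_)
      exact congrArg Subtype.val (LinearMap.congr_fun (htriv g) ⟨u, hu⟩)
    rw [this, finrank_bot]
  have h1 := key a (by omega)
  have h3 := key b (by omega)
  omega

end Transfer

/-- The degree and square class data of a constituent of a Weil representation. -/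
theorem exists_weilChar (hψ : ψ.IsPrimitive) (hodd : Odd (Fintype.card F)) (hn : 2 ≤ n) :
    ∃ χp χm : IrrCharacter Sp, IsRk1Char ψ χp ∧ IsRk1Char ψ χm ∧
      (χp : Sp → ℂ) 1 = ((Fintype.card F ^ n + 1 : ℕ) : ℂ) / 2 ∧
      (χm : Sp → ℂ) 1 = ((Fintype.card F ^ n - 1 : ℕ) : ℂ) / 2 := by
  obtain ⟨he, ho⟩ := Weil.finrank_even_odd (n := n) (F := F) hodd
  have hQ : 9 ≤ Fintype.card F ^ n := by
    have := Fintype.one_lt_card (α := F)
    obtain ⟨j, hj⟩ := hodd
    calc 9 = 3 ^ 2 := rfl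
      _ ≤ Fintype.card F ^ 2 := Nat.pow_le_pow_left (by omega) 2
      _ ≤ Fintype.card F ^ n := Nat.pow_le_pow_right (by omega) hn
  have key : ∀ (S : Submodule ℂ (Weil.Hs n F))
      (hS : ∀ g, ∀ f ∈ S, Weil.weil hψ hodd g f ∈ S),
      2 ≤ Module.finrank ℂ S → Module.finrank ℂ S + 1 < Fintype.card F ^ n →
      ∃ χ : IrrCharacter Sp, IsRk1Char ψ χ ∧ (χ : Sp → ℂ) 1 = Module.finrank ℂ S := by
    intro S hS hd2 hdlt
    let σ : Subrepresentation (weilRep (n := n) hψ hodd) := ⟨S, fun g f hf => hS g f hf⟩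
    let e := LinearEquiv.ofFinrankEq S (Fin (Module.finrank ℂ S) → ℂ)
      (Module.finrank_fin_fun ℂ).symm
    let ρ : Representation ℂ Sp (Fin (Module.finrank ℂ S) → ℂ) :=
      (e.conjAlgEquiv ℂ).toMulEquiv.toMonoidHom.comp σ.toRepresentation
    let i : (Fin (Module.finrank ℂ S) → ℂ) →ₗ[ℂ] Weil.Hs n F := S.subtype ∘ₗ e.symm.toLinearMap
    have hi : Function.Injective i := S.injective_subtype.comp e.symm.injective
    have hcomm : ∀ g w, i (ρ g w) = weilRep hψ hodd g (i w) := fun g w => by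
      show (e.symm (e (σ.toRepresentation g (e.symm w))) : Weil.Hs n F) = _
      rw [e.symm_apply_apply]
      rfl
    have hnf : ∀ u, (∀ g, ρ g u = u) → u = 0 :=
      noFixed_of_injective (weilRep_no_fixed hψ hodd hn) i hi hcomm
    haveI : Nonempty (Fin (Module.finrank ℂ S)) := ⟨⟨0, by omega⟩⟩
    haveI := irreducible_of_no_fixed (ρ := ρ) hodd (by omega) hnf
      (by rwa [Module.finrank_fin_fun])
    refine ⟨⟨ρ.character, _, ρ, inferInstance, rfl⟩, ⟨_, ρ,
      ⟨(low_weilRep hψ hodd hn).of_injective i hi hcomm, hnf⟩, rfl⟩, ?_⟩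
    show ρ.character 1 = _
    rw [Representation.char_one, Module.finrank_fin_fun]
  obtain ⟨χp, hp, hp1⟩ := key Weil.evenSub
    (fun g => Weil.maps_even (Weil.weil_spec hψ hodd g).2.2.1) (by omega) (by omega)
  obtain ⟨χm, hm, hm1⟩ := key Weil.oddSub
    (fun g => Weil.maps_odd (Weil.weil_spec hψ hodd g).2.2.1) (by omega) (by omega)
  refine ⟨χp, χm, hp, hm, ?_, ?_⟩
  · rw [hp1, eq_div_iff two_ne_zero, ← he, Nat.cast_mul]; ring
  · rw [hm1, eq_div_iff two_ne_zero, ← ho, Nat.add_sub_cancel, Nat.cast_mul]; ring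

/-- The two square classes give different characters. -/
theorem rk1Char_disjoint (hψ : ψ.IsPrimitive) (h2 : (2 : F) ≠ 0) (hn : 2 ≤ n) {ε : F}
    (hε : ¬ IsSquare ε) (χ : IrrCharacter Sp) (h : IsRk1Char ψ χ)
    (h' : IsRk1Char (ψ.mulShift ε) χ) : False := by
  obtain ⟨k, ρ, hρ, hχ⟩ := h
  obtain ⟨k', ρ', hρ', hχ'⟩ := h'
  obtain ⟨e⟩ := H12.nonempty_equiv_of_character_eq ρ ρ' (hχ.trans hχ'.symm)
  have hε0 := isPrimitive_ne_zero hε
  have hL' : Low ρ (ψ.mulShift ε) {(-2⁻¹ : F)} := hρ'.1.of_injective e.toLinearEquiv.toLinearMap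
    e.toLinearEquiv.injective fun g w =>
      Representation.IntertwiningMap.isIntertwining _ _ e.toIntertwiningMap g w
  have htriv : ∀ B, ρ (radical B) = 1 := fun B => by
    refine sub_eq_zero.1 (ext_radical (ρ := ρ) hψ h2 _ fun C hC w hw hrad => ?_)
    obtain ⟨c, hc, l, rfl⟩ := hρ.1 C hC w hw hrad
    obtain rfl : c = -2⁻¹ := hc
    have hrad' : ∀ B, ρ (radical B) w =
        chiOf (ψ.mulShift ε) (ε⁻¹ • (-2⁻¹ : F) • vecMulVec l l) B • w := fun B => by
      rw [hrad, chiOf_mulShift, smul_smul ε, mul_inv_cancel₀ hε0, one_smul]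
    obtain ⟨c, hc, m, hm⟩ := hL' _ (hC.smul _) w hw hrad'
    obtain rfl : c = -2⁻¹ := hc
    have hl : l = 0 := by
      funext i
      by_contra hi
      change l i ≠ 0 at hi
      have e1 := congrFun (congrFun hm i) i
      simp only [Matrix.smul_apply, vecMulVec_apply, smul_eq_mul] at e1
      have e2 : ε⁻¹ * (l i * l i) = m i * m i :=
        mul_left_cancel₀ (neg_ne_zero.2 (inv_ne_zero h2)) (by linear_combination e1)
      have hm0 : m i ≠ 0 := fun h0 => by
        rw [h0, mul_zero, mul_eq_zero] at e2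
        exact e2.elim (inv_ne_zero hε0) (mul_self_ne_zero.2 hi)
      refine hε ⟨l i / m i, ?_⟩
      field_simp at e2 ⊢
      linear_combination -e2
    rw [LinearMap.sub_apply, hrad, hl, vecMulVec_zero, smul_zero]
    simp [chiOf_apply]
  have hall : ∀ g, ρ g = 1 := fun g => by
    let φ := MonoidHom.toHomUnits ρ
    have : φ.ker = ⊤ := eq_top_of_radical_le (by omega) φ.ker fun B =>
      MonoidHom.mem_ker.2 (Units.ext (htriv B))
    exact congrArg Units.val (MonoidHom.mem_ker.1 (this ▸ Subgroup.mem_top g : g ∈ φ.ker))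
  have hk : (χ : Sp → ℂ) 1 = k := by rw [← hχ, Representation.char_one, Module.finrank_fin_fun]
  rcases Nat.eq_zero_or_pos k with rfl | hkpos
  · exact H12.irr_apply_one_ne_zero χ (by simpa using hk)
  · have := hρ.2 (fun _ => (1 : ℂ)) fun g => by rw [hall g]; rfl
    exact one_ne_zero (congrFun this ⟨0, hkpos⟩)

end RankOne

end H12
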