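import Mathlib
import Cfsg.Agent.H12.Weil.Orbit
import Cfsg.Agent.H12.Weil.Existence

/-!
# Degrees of the Weil characters and the gap above them
-/

set_option autoImplicit false

namespace H12

namespace RankOne

open Matrix H48 Cfsg

variable {n : ℕ} {F : Type*} [Field F] [Fintype F] [DecidableEq F]

local notation "Sp" => Matrix.symplecticGroup (Fin n) F

/-- The gap. -/
noncomputable def gap (n : ℕ) (F : Type*) [Fintype F] : ℝ :=
  ((Fintype.card F : ℝ) ^ n - 1) * ((Fintype.card F : ℝ) ^ n - Fintype.card F) /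
    (2 * ((Fintype.card F : ℝ) + 1))

/-- A non-trivial irreducible character is large or of rank one. -/
theorem gap_or_rk1 {ψ : AddChar F ℂ} (hψ : ψ.IsPrimitive) (hodd : Odd (Fintype.card F))
    (hn : 2 ≤ n) {ε : F} (hε : ¬ IsSquare ε) (χ : IrrCharacter Sp) {k : ℕ} (hk : (χ : Sp → ℂ) 1 = k)
    (hk1 : k ≠ 1) : gap n F ≤ k ∨ IsRk1Char ψ χ ∨ IsRk1Char (ψ.mulShift ε) χ := by
  classical
  have h2 := two_ne_zero_of_odd hodd
  obtain ⟨d, ρ, hρ, hχ⟩ := χ.2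
  have hd : d = k := by
    have := (congrFun hχ 1).trans hk
    rw [Representation.char_one, Module.finrank_fin_fun] at this
    exact_mod_cast this
  by_cases hlow : Low ρ ψ Set.univ
  · right
    haveI := hρ
    have hnf : ∀ u : Fin d → ℂ, (∀ g, ρ g u = u) → u = 0 := by
      intro u hu
      by_contra hu0
      let σ : Subrepresentation ρ := ⟨Submodule.span ℂ {u}, fun g v hv => by
        obtain ⟨c, rfl⟩ := Submodule.mem_span_singleton.1 hv
        rw [map_smul, hu g]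
        exact Submodule.smul_mem _ c (Submodule.mem_span_singleton_self u)⟩
      haveI : IsSimpleOrder (Subrepresentation ρ) := hρ
      rcases IsSimpleOrder.eq_bot_or_eq_top σ with hσ | hσ
      · have h1 : u ∈ σ.toSubmodule := Submodule.mem_span_singleton_self u
        rw [hσ] at h1
        exact hu0 ((Submodule.mem_bot ℂ).1 h1)
      · have e : Submodule.span ℂ {u} = (⊤ : Submodule ℂ (Fin d → ℂ)) :=
          congrArg Subrepresentation.toSubmodule hσ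
        have h3 := finrank_span_singleton (K := ℂ) hu0
        rw [e, finrank_top, Module.finrank_fin_fun] at h3
        omega
    obtain ⟨c, hc, hL⟩ := exists_class hψ h2 hn hε hlow hnf
    rcases hc with rfl | rfl
    · rw [AddChar.mulShift_one] at hL
      exact Or.inl ⟨d, ρ, ⟨hL, hnf⟩, hχ⟩
    · exact Or.inr ⟨d, ρ, ⟨hL, hnf⟩, hχ⟩
  · left
    simp only [Low, not_forall, not_exists, not_and] at hlow
    obtain ⟨C, hC, w, hw, hrad, hrk⟩ := hlow
    have h1 := cOrb_ge hodd hn hC (fun c l => hrk c (Set.mem_univ c) l)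
    refine h1.trans ?_
    rw [Nat.cast_le, ← Nat.card_image_of_injOn (f := chiOf ψ) fun A hA B hB h =>
      chiOf_injOn hψ h2 (cOrb_symm hC hA) (cOrb_symm hC hB) h, ← hd,
      ← Module.finrank_fin_fun (R := ℂ) (n := d)]
    refine AbW.IsAct.card_orbit_le ρ radical hw hrad _ ?_
    rintro _ ⟨A, ⟨X, hX, rfl⟩, rfl⟩
    obtain ⟨g, hg⟩ := exists_conj_radical X hX
    refine ⟨g, fun a => ⟨congr' X a, hg a, ?_⟩⟩
    rw [chiOf_apply, chiOf_apply]
    congr 1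
    show (Xᵀ * C * X * a.1).trace = (C * (X * a.1 * Xᵀ)).trace
    rw [Matrix.mul_assoc, Matrix.trace_mul_comm, ← Matrix.mul_assoc, Matrix.mul_assoc _ Xᵀ C]
    rw [Matrix.trace_mul_comm (X * a.1) (Xᵀ * C), Matrix.mul_assoc Xᵀ C, Matrix.trace_mul_comm,
      Matrix.mul_assoc C]

omit [DecidableEq F] in
theorem gap_gt (hodd : Odd (Fintype.card F)) (hn : 2 ≤ n) :
    ((Fintype.card F : ℝ) ^ n + 1) / 2 < gap n F := by
  have hq : (3 : ℝ) ≤ Fintype.card F := by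
    have := Fintype.one_lt_card (α := F)
    obtain ⟨j, hj⟩ := hodd
    exact_mod_cast (show 3 ≤ Fintype.card F by omega)
  unfold gap
  set q : ℝ := ((Fintype.card F : ℕ) : ℝ) with hqdef
  have hQ : q ^ 2 ≤ q ^ n := pow_le_pow_right₀ (by linarith) hn
  set Q := q ^ n
  rw [lt_div_iff₀ (by linarith)]
  have h1 : q + 3 ≤ Q - q := by nlinarith
  have h3 : (Q - 1) * (q + 3) ≤ (Q - 1) * (Q - q) := mul_le_mul_of_nonneg_left h1 (by nlinarith)
  nlinarith

/-- The Weil characters and the gap. -/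
theorem weil_gap (hodd : Odd (Fintype.card F)) (hn : 2 ≤ n) :
    Nat.card {χ : IrrCharacter Sp // (χ : Sp → ℂ) 1 = ((Fintype.card F ^ n + 1 : ℕ) : ℂ) / 2} = 2 ∧
    Nat.card {χ : IrrCharacter Sp // (χ : Sp → ℂ) 1 = ((Fintype.card F ^ n - 1 : ℕ) : ℂ) / 2} = 2 ∧
    ∀ χ : IrrCharacter Sp, (χ : Sp → ℂ) 1 ≠ 1 →
      (χ : Sp → ℂ) 1 ≠ ((Fintype.card F ^ n + 1 : ℕ) : ℂ) / 2 →
      (χ : Sp → ℂ) 1 ≠ ((Fintype.card F ^ n - 1 : ℕ) : ℂ) / 2 →
      gap n F ≤ ‖(χ : Sp → ℂ) 1‖ := by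
  classical
  have h2 := two_ne_zero_of_odd hodd
  obtain ⟨ψ, hψ⟩ := exists_psi (F := F) (K := ℂ) ringChar_complex_ne
  obtain ⟨ε, hε⟩ := RankOne.exists_nonsquare h2
  have hψ' := isPrimitive_mulShift hψ (isPrimitive_ne_zero hε)
  obtain ⟨p₁, m₁, hp₁, hm₁, ep₁, em₁⟩ := exists_weilChar (n := n) hψ hodd hn
  obtain ⟨p₂, m₂, hp₂, hm₂, ep₂, em₂⟩ := exists_weilChar (n := n) hψ' hodd hn
  set Q := Fintype.card F ^ n with hQdef
  have hQ : 9 ≤ Q := by
    have := Fintype.one_lt_card (α := F)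
    obtain ⟨j, hj⟩ := hodd
    calc 9 = 3 ^ 2 := rfl
      _ ≤ Fintype.card F ^ 2 := Nat.pow_le_pow_left (by omega) 2
      _ ≤ Fintype.card F ^ n := Nat.pow_le_pow_right (by omega) hn
  have hQodd : Q % 2 = 1 := Nat.odd_iff.1 hodd.pow
  have hne : ((Q + 1 : ℕ) : ℂ) / 2 ≠ ((Q - 1 : ℕ) : ℂ) / 2 := fun h => by
    have h' : Q + 1 = Q - 1 := Nat.cast_injective (R := ℂ) ((div_left_inj' two_ne_zero).1 h)
    omega
  have hclass : ∀ (φ : AddChar F ℂ), φ.IsPrimitive → ∀ p m : IrrCharacter Sp,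
      IsRk1Char φ p → IsRk1Char φ m → (p : Sp → ℂ) 1 = ((Q + 1 : ℕ) : ℂ) / 2 →
      (m : Sp → ℂ) 1 = ((Q - 1 : ℕ) : ℂ) / 2 → ∀ χ, IsRk1Char φ χ → χ = p ∨ χ = m := by
    intro φ hφ p m hp hm ep em χ hχ
    by_contra hcon
    simp only [not_or] at hcon
    have h3 := card_rk1Char_le (n := n) hφ h2 hn
    let s : Fin 3 → {χ : IrrCharacter Sp // IsRk1Char φ χ} := ![⟨χ, hχ⟩, ⟨p, hp⟩, ⟨m, hm⟩]
    have hpm : p ≠ m := fun h => hne (ep.symm.trans (h ▸ em))
    have hs : Function.Injective s := by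
      intro i j h
      have h' := congrArg Subtype.val h
      fin_cases i <;> fin_cases j <;>
        simp [s, hcon.1, hcon.2, hpm, hpm.symm, Ne.symm hcon.1, Ne.symm hcon.2] at h' ⊢
    have := Nat.card_le_card_of_injective s hs
    rw [Nat.card_fin] at this
    omega
  have hrest : ∀ χ : IrrCharacter Sp, (χ : Sp → ℂ) 1 ≠ 1 →
      gap n F ≤ ‖(χ : Sp → ℂ) 1‖ ∨ χ = p₁ ∨ χ = m₁ ∨ χ = p₂ ∨ χ = m₂ := by
    intro χ h1
    set k := degree (χ : Sp → ℂ)
    have hk : (χ : Sp → ℂ) 1 = (k : ℂ) := H12.irr_apply_one χ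
    rcases gap_or_rk1 hψ hodd hn hε χ hk (fun h => h1 (by rw [hk, h, Nat.cast_one])) with h | h | h
    · exact Or.inl (by rw [hk, Complex.norm_natCast]; exact h)
    · exact Or.inr ((hclass ψ hψ p₁ m₁ hp₁ hm₁ ep₁ em₁ χ h).imp_right Or.inl)
    · exact Or.inr (Or.inr (Or.inr (hclass _ hψ' p₂ m₂ hp₂ hm₂ ep₂ em₂ χ h)))
  have hnotgap : ∀ χ : IrrCharacter Sp, ∀ k : ℕ, (χ : Sp → ℂ) 1 = (k : ℂ) / 2 → k ≤ Q + 1 →
      ¬ gap n F ≤ ‖(χ : Sp → ℂ) 1‖ := by
    intro χ k e hk h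
    have h' := gap_gt (n := n) hodd hn
    rw [e, norm_div, Complex.norm_natCast] at h
    have hkR : (k : ℝ) ≤ (Fintype.card F : ℝ) ^ n + 1 := by exact_mod_cast hk
    norm_num at h
    linarith
  have hone : ∀ χ : IrrCharacter Sp, ∀ k : ℕ, (χ : Sp → ℂ) 1 = (k : ℂ) / 2 → 2 < k →
      (χ : Sp → ℂ) 1 ≠ 1 := by
    intro χ k e hk h
    rw [e, div_eq_one_iff_eq two_ne_zero] at h
    have : k = 2 := by exact_mod_cast h
    omega
  refine ⟨?_, ?_, fun χ h1 hp hm => ?_⟩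
  · have hp12 : p₁ ≠ p₂ := fun h => rk1Char_disjoint hψ h2 hn hε p₁ hp₁ (h ▸ hp₂)
    rw [Nat.card_eq_two_iff]
    refine ⟨⟨p₁, ep₁⟩, ⟨p₂, ep₂⟩, fun h => hp12 (congrArg Subtype.val h), ?_⟩
    refine Set.eq_univ_of_forall fun χ => ?_
    rcases hrest χ.1 (hone χ.1 _ χ.2 (by omega)) with h | h | h | h | h
    · exact absurd h (hnotgap χ.1 _ χ.2 (by omega))
    · exact Or.inl (Subtype.ext h)
    · exact absurd (χ.2.symm.trans (h ▸ em₁)) hne
    · exact Or.inr (Subtype.ext h)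
    · exact absurd (χ.2.symm.trans (h ▸ em₂)) hne
  · have hm12 : m₁ ≠ m₂ := fun h => rk1Char_disjoint hψ h2 hn hε m₁ hm₁ (h ▸ hm₂)
    rw [Nat.card_eq_two_iff]
    refine ⟨⟨m₁, em₁⟩, ⟨m₂, em₂⟩, fun h => hm12 (congrArg Subtype.val h), ?_⟩
    refine Set.eq_univ_of_forall fun χ => ?_
    rcases hrest χ.1 (hone χ.1 _ χ.2 (by omega)) with h | h | h | h | h
    · exact absurd h (hnotgap χ.1 _ χ.2 (by omega))
    · exact absurd ((h ▸ ep₁).symm.trans χ.2) hne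
    · exact Or.inl (Subtype.ext h)
    · exact absurd ((h ▸ ep₂).symm.trans χ.2) hne
    · exact Or.inr (Subtype.ext h)
  · rcases hrest χ h1 with h | rfl | rfl | rfl | rfl
    · exact h
    · exact absurd ep₁ hp
    · exact absurd em₁ hm
    · exact absurd ep₂ hp
    · exact absurd em₂ hm

end RankOne

end H12
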